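import Cfsg.Prelude
import Cfsg.Agent.Lib.LocalEven2.Sylow
import Cfsg.Agent.Lib.Components.Fitting
import Cfsg.Agent.Lib.Coprime.Action
import Cfsg.Agent.S3020
import Cfsg.Agent.S3021

/-!
# Extremely closed abelian `p`-subgroups: the pair subgroups

For an extremely closed abelian `p`-subgroup `H` and `g : G` the subgroup `pairSub H g`, generated
by `H` and its conjugate by `g`, is a semidirect product of the `p'`-group `pairCore p H g` by `H`.
Every `g` has a unique factorisation `g = tr p H g * nn p H g` with `tr p H g` in that core and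
`nn p H g` normalizing `H`.
-/

set_option autoImplicit false
set_option linter.unusedSectionVars false

namespace Cfsg.Agent.Lib.ExtremelyClosed

open Cfsg
open Pointwise

variable {G : Type*} [Group G] [Finite G] {p : ℕ} [hp : Fact p.Prime] {H : Subgroup G}

/-- An extremely closed abelian `p`-subgroup. -/
structure ECHyp {G : Type*} [Group G] (p : ℕ) (H : Subgroup G) : Prop where
  pgroup : IsPGroup p H
  comm : IsMulCommutative H
  closed : IsExtremelyClosed H

/-- The subgroup generated by `H` and its conjugate by `g`. -/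
def pairSub {G : Type*} [Group G] (H : Subgroup G) (g : G) : Subgroup G :=
  H ⊔ H.map (MulAut.conj g).toMonoidHom

/-- The largest normal `p'`-subgroup of the pair subgroup. -/
def pairCore {G : Type*} [Group G] (p : ℕ) (H : Subgroup G) (g : G) : Subgroup G :=
  (pPrimeCore p ↥(pairSub H g)).map (pairSub H g).subtype

theorem le_pairSub (g : G) : H ≤ pairSub H g := le_sup_left

theorem conj_mem_pairSub (g : G) {h : G} (hh : h ∈ H) : g * h * g⁻¹ ∈ pairSub H g :=
  Subgroup.mem_sup_right ⟨h, hh, rfl⟩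

theorem pairCore_le (g : G) : pairCore p H g ≤ pairSub H g := Subgroup.map_subtype_le _

theorem pairCore_coprime (g : G) : (Nat.card (pairCore p H g)).Coprime p := by
  rw [pairCore, ← Nat.card_congr
    (Subgroup.equivMapOfInjective _ _ (pairSub H g).subtype_injective).toEquiv]
  exact Lib.Components.pPrimeCore_coprime p

theorem not_dvd_orderOf {K : Subgroup G} (hK : (Nat.card K).Coprime p) {x : G} (hx : x ∈ K) :
    ¬ p ∣ orderOf x := fun h => (hp.out.coprime_iff_not_dvd.mp hK.symm)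
  (h.trans (by simpa using orderOf_dvd_natCard (⟨x, hx⟩ : K)))

theorem mem_normalizer_of_conj_le (K : Subgroup G) {x : G} (h : ∀ y ∈ K, x * y * x⁻¹ ∈ K) :
    x ∈ Subgroup.normalizer (K : Set G) := by
  have heq : K.map (MulAut.conj x).toMonoidHom = K := by
    refine Subgroup.eq_of_le_of_card_ge (by rintro _ ⟨y, hy, rfl⟩; exact h y hy)
      (Nat.card_congr (Subgroup.equivMapOfInjective _ _ (MulAut.conj x).injective).toEquiv).le
  rw [Subgroup.mem_normalizer_iff]
  intro z
  conv_rhs => rw [← heq]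
  rw [Lib.LocalEven2.mem_map_conj]
  simp [mul_assoc]

theorem map_conj_eq {K : Subgroup G} {x : G} (hx : x ∈ Subgroup.normalizer (K : Set G)) :
    K.map (MulAut.conj x).toMonoidHom = K := by
  refine Subgroup.eq_of_le_of_card_ge ?_
    (Nat.card_congr (Subgroup.equivMapOfInjective _ _ (MulAut.conj x).injective).toEquiv).le
  rintro _ ⟨y, hy, rfl⟩
  exact (Subgroup.mem_normalizer_iff.mp hx y).mp hy

theorem conj_mem {K : Subgroup G} {x : G} (hx : x ∈ Subgroup.normalizer (K : Set G)) {y : G}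
    (hy : y ∈ K) : x * y * x⁻¹ ∈ K :=
  (Subgroup.mem_normalizer_iff.mp hx y).mp hy

theorem pairSub_le_normalizer (g : G) :
    pairSub H g ≤ Subgroup.normalizer (pairCore p H g : Set G) := by
  intro x hx
  refine mem_normalizer_of_conj_le _ ?_
  rintro _ ⟨y, hy, rfl⟩
  exact ⟨⟨x, hx⟩ * y * ⟨x, hx⟩⁻¹, Subgroup.Normal.conj_mem inferInstance y hy _, rfl⟩

theorem pairSub_mul_right (g : G) {m : G} (hm : m ∈ Subgroup.normalizer (H : Set G)) :
    pairSub H (g * m) = pairSub H g := by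
  have h1 : H.map (MulAut.conj (g * m)).toMonoidHom = H.map (MulAut.conj g).toMonoidHom := by
    conv_rhs => rw [← map_conj_eq hm, Subgroup.map_map]
    congr 1
    ext z
    simp [mul_assoc]
  rw [pairSub, h1, pairSub]

theorem conj_mem_pairSub_mul (g : G) {m x : G} (hm : m ∈ Subgroup.normalizer (H : Set G))
    (hx : x ∈ pairSub H g) : m * x * m⁻¹ ∈ pairSub H (m * g) := by
  have h1 : (pairSub H g).map (MulAut.conj m).toMonoidHom ≤ pairSub H (m * g) := by
    rw [pairSub, Subgroup.map_sup, map_conj_eq hm, Subgroup.map_map]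
    refine sup_le (le_pairSub _) (le_sup_right.trans' (le_of_eq ?_))
    congr 1
    ext z
    simp [mul_assoc]
  exact h1 ⟨x, hx, rfl⟩

theorem conj_inv_mem_pairSub (g : G) {x : G} (hx : x ∈ pairSub H g) :
    g⁻¹ * x * g ∈ pairSub H g⁻¹ := by
  have h1 : (pairSub H g).map (MulAut.conj g⁻¹).toMonoidHom ≤ pairSub H g⁻¹ := by
    rw [pairSub, Subgroup.map_sup, Subgroup.map_map]
    refine sup_le le_sup_right (le_sup_left.trans' (le_of_eq ?_))
    convert Subgroup.map_id H
    ext z
    simp [mul_assoc]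
  simpa using h1 ⟨x, hx, rfl⟩

/-- An element of a coset `y * N`, with `y` of order prime to `|N|`, is conjugate by an element of
`N` to `y * c` with `c ∈ N` commuting with `y`. -/
theorem exists_conj_mul_fixed {N : Subgroup G} {y o : G}
    (hy : y ∈ Subgroup.normalizer (N : Set G)) (hcop : (orderOf y).Coprime (Nat.card N))
    (ho : o ∈ N) : ∃ c ∈ N, Commute y c ∧ ∃ n ∈ N, n * (y * c) * n⁻¹ = y * o := by
  have hA : Subgroup.zpowers y ≤ Subgroup.normalizer (N : Set G) := Subgroup.zpowers_le.mpr hy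
  set L := N ⊔ Subgroup.zpowers y with hL
  have hLN : L ≤ Subgroup.normalizer (N : Set G) := sup_le Subgroup.le_normalizer hA
  haveI hnorm : (N.subgroupOf L).Normal := Subgroup.normal_subgroupOf_of_le_normalizer hLN
  have hyL : y ∈ L := Subgroup.mem_sup_right (Subgroup.mem_zpowers y)
  have hxL : y * o ∈ L := mul_mem hyL (Subgroup.mem_sup_left ho)
  let π := QuotientGroup.mk' (N.subgroupOf L)
  have hπ : ∀ {a : G} (ha : a ∈ L), π ⟨a, ha⟩ = 1 ↔ a ∈ N := fun ha =>
    QuotientGroup.eq_one_iff (⟨_, ha⟩ : L)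
  set q := orderOf y with hq
  set m := Nat.card N with hm
  obtain ⟨k, hk1, hk0⟩ := Nat.chineseRemainder hcop 1 0
  have hxy : π ⟨y * o, hxL⟩ = π ⟨y, hyL⟩ := by
    have : (⟨y * o, hxL⟩ : L) = ⟨y, hyL⟩ * ⟨o, Subgroup.mem_sup_left ho⟩ := rfl
    rw [this, map_mul, (hπ _).mpr ho, mul_one]
  have hxq : (y * o) ^ q ∈ N := by
    refine (hπ (pow_mem hxL q)).mp ?_
    have : (⟨(y * o) ^ q, pow_mem hxL q⟩ : L) = ⟨y * o, hxL⟩ ^ q := rfl
    rw [this, map_pow, hxy, ← map_pow]
    exact (hπ _).mpr (by simp [hq, pow_orderOf_eq_one])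
  have hxqm : ((y * o) ^ q) ^ m = 1 :=
    congrArg Subtype.val (pow_card_eq_one' (x := (⟨_, hxq⟩ : N)))
  set u := (y * o) ^ k with hu
  have huL : u ∈ L := pow_mem hxL k
  have huy : π ⟨u, huL⟩ = π ⟨y, hyL⟩ := by
    have h1 : (⟨u, huL⟩ : L) = ⟨y * o, hxL⟩ ^ k := rfl
    rw [h1, map_pow, hxy, ← map_pow]
    congr 1
    refine Subtype.ext ?_
    show y ^ k = y
    conv_rhs => rw [← pow_one y]
    exact pow_eq_pow_iff_modEq.mpr hk1
  have huq : u ^ q = 1 := by
    obtain ⟨j, hj⟩ := Nat.modEq_zero_iff_dvd.mp hk0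
    rw [hu, ← pow_mul, hj, show m * j * q = q * m * j by ring, pow_mul, pow_mul, hxqm, one_pow]
  have hord : orderOf u = q := by
    refine Nat.dvd_antisymm (orderOf_dvd_of_pow_eq_one huq) (orderOf_dvd_of_pow_eq_one ?_)
    refine Lib.Coprime.eq_one_of_mem_of_mem (N := Subgroup.zpowers y) (H := N) ?_
      (pow_mem (Subgroup.mem_zpowers y) _) ?_
    · rwa [Nat.card_zpowers]
    · refine (hπ (pow_mem hyL _)).mp ?_
      have : (⟨y ^ orderOf u, pow_mem hyL _⟩ : L) = ⟨y, hyL⟩ ^ orderOf u := rfl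
      rw [this, map_pow, ← huy, ← map_pow]
      exact (hπ _).mpr (by simp [pow_orderOf_eq_one])
  obtain ⟨n, hn, hconj⟩ := Lib.Coprime.exists_conj_eq_of_le_sup (N := N)
    (H := Subgroup.zpowers y) (K := Subgroup.zpowers u) hA
    (by rw [Nat.card_zpowers]; exact hcop.symm) (Or.inr (Lib.Coprime.isSolvable_zpowers y))
    (by rw [Nat.card_zpowers, Nat.card_zpowers, hord]) (Subgroup.zpowers_le.mpr huL)
  have hnmem : n * y * n⁻¹ ∈ Subgroup.zpowers u := by
    rw [← hconj, Lib.Coprime.mem_conj_smul]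
    simp [mul_assoc]
  obtain ⟨j, hj⟩ := Subgroup.mem_zpowers_iff.mp hnmem
  have hjπ : π ⟨y, hyL⟩ = π ⟨u, huL⟩ ^ j := by
    rw [← map_zpow]
    have h2 : (⟨u, huL⟩ : L) ^ j =
        ⟨n, Subgroup.mem_sup_left hn⟩ * ⟨y, hyL⟩ * ⟨n, Subgroup.mem_sup_left hn⟩⁻¹ :=
      Subtype.ext hj
    rw [h2, map_mul, map_mul, map_inv, (hπ _).mpr hn]
    simp
  have huj : u ^ j = u := by
    conv_rhs => rw [← zpow_one u]
    rw [zpow_eq_zpow_iff_modEq]
    have h3 : orderOf (π ⟨u, huL⟩) = orderOf u := by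
      refine Nat.dvd_antisymm ?_ ?_
      · have := orderOf_map_dvd π ⟨u, huL⟩
        rwa [Subgroup.orderOf_mk] at this
      · rw [hord, huy]
        refine orderOf_dvd_of_pow_eq_one (Lib.Coprime.eq_one_of_mem_of_mem
          (N := Subgroup.zpowers y) (H := N) ?_ (pow_mem (Subgroup.mem_zpowers y) _) ?_)
        · rwa [Nat.card_zpowers]
        · refine (hπ (pow_mem hyL _)).mp ?_
          have : (⟨y ^ orderOf (π ⟨y, hyL⟩), pow_mem hyL _⟩ : L) =
              ⟨y, hyL⟩ ^ orderOf (π ⟨y, hyL⟩) := rfl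
          rw [this, map_pow, pow_orderOf_eq_one]
    rw [← h3, ← zpow_eq_zpow_iff_modEq, ← hjπ, zpow_one, huy]
  have hny : n * y * n⁻¹ = u := hj.symm.trans huj
  set z := n⁻¹ * (y * o) * n with hz
  have hcomm : Commute y z := by
    have h1 : Commute u (y * o) := (Commute.refl (y * o)).pow_left k
    rw [← hny] at h1
    have h2 := h1.map (MulAut.conj n⁻¹).toMonoidHom
    simpa [hz, mul_assoc] using h2
  refine ⟨y⁻¹ * z, ?_, (Commute.refl y).inv_right.mul_right hcomm, n, hn, by rw [hz]; group⟩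
  have h1 : y⁻¹ * n⁻¹ * y ∈ N := (Subgroup.mem_normalizer_iff''.mp hy _).mp (inv_mem hn)
  have h2 : y⁻¹ * z = (y⁻¹ * n⁻¹ * y) * o * n := by rw [hz]; group
  rw [h2]
  exact mul_mem (mul_mem h1 ho) hn

namespace ECHyp

variable (E : ECHyp p H)
include E

theorem inter_normalizer {g x : G} (hx : x ∈ pairSub H g)
    (hn : x ∈ Subgroup.normalizer (H : Set G)) : x ∈ H :=
  (E.closed g).le ⟨hx, hn⟩

theorem le_centralizer : H ≤ Subgroup.centralizer (H : Set G) :=
  Subgroup.le_centralizer_iff_isMulCommutative.mpr E.comm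

theorem mul_comm_mem {a b : G} (ha : a ∈ H) (hb : b ∈ H) : a * b = b * a :=
  (Subgroup.mem_centralizer_iff.mp (E.le_centralizer hb) a ha)

theorem conj_mem_of_mem_normalizer {g h : G} (hh : h ∈ H)
    (hn : g * h * g⁻¹ ∈ Subgroup.normalizer (H : Set G)) : g * h * g⁻¹ ∈ H :=
  E.inter_normalizer (conj_mem_pairSub g hh) hn

theorem sup_pairCore (g : G) : H ⊔ pairCore p H g = pairSub H g :=
  (Cfsg.Agent.S3020.result H E.pgroup E.comm E.closed g _ rfl).1

theorem inf_pairCore (g : G) : H ⊓ pairCore p H g = ⊥ :=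
  (Cfsg.Agent.S3020.result H E.pgroup E.comm E.closed g _ rfl).2

theorem normalize_core (g : G) : H ≤ Subgroup.normalizer (pairCore p H g : Set G) :=
  (le_pairSub g).trans (pairSub_le_normalizer g)

theorem coprime_card (g : G) : (Nat.card (pairCore p H g)).Coprime (Nat.card H) := by
  obtain ⟨n, hn⟩ := IsPGroup.iff_card.mp E.pgroup
  rw [hn]
  exact Nat.Coprime.pow_right n (pairCore_coprime g)

theorem exists_mul {g x : G} (hx : x ∈ pairSub H g) :
    ∃ o ∈ pairCore p H g, ∃ h ∈ H, x = o * h := by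
  rw [← E.sup_pairCore g, sup_comm] at hx
  obtain ⟨o, ho, h, hh, heq⟩ := Lib.Coprime.exists_mul_of_mem_sup (E.normalize_core g) hx
  exact ⟨o, ho, h, hh, heq⟩

theorem eq_one_of_mem_normalizer {g o : G} (ho : o ∈ pairCore p H g)
    (hn : o ∈ Subgroup.normalizer (H : Set G)) : o = 1 :=
  (Subgroup.mem_bot.mp ((E.inf_pairCore g).le ⟨E.inter_normalizer (pairCore_le g ho) hn, ho⟩))

/-- The elements of order prime to `p` of the pair subgroup lie in its core. -/
theorem mem_pairCore {g x : G} (hx : x ∈ pairSub H g) (hord : ¬ p ∣ orderOf x) :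
    x ∈ pairCore p H g := by
  set T := pairSub H g
  obtain ⟨o, ho, h, hh, rfl⟩ := E.exists_mul hx
  haveI : ((pairCore p H g).subgroupOf T).Normal :=
    Subgroup.normal_subgroupOf_of_le_normalizer (pairSub_le_normalizer g)
  let π := QuotientGroup.mk' ((pairCore p H g).subgroupOf T)
  have hπ : π ⟨o * h, hx⟩ = π ⟨h, le_pairSub g hh⟩ := by
    have : (⟨o * h, hx⟩ : T) = ⟨o, pairCore_le g ho⟩ * ⟨h, le_pairSub g hh⟩ := rfl
    rw [this, map_mul, show π ⟨o, pairCore_le g ho⟩ = 1 from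
      (QuotientGroup.eq_one_iff (⟨o, pairCore_le g ho⟩ : T)).mpr ho, one_mul]
  have h1 : orderOf (π ⟨o * h, hx⟩) ∣ orderOf (o * h) := by
    have := orderOf_map_dvd π ⟨o * h, hx⟩
    rwa [Subgroup.orderOf_mk] at this
  obtain ⟨k, hk⟩ := Lib.LocalEven2.orderOf_of_mem_pgroup E.pgroup hh
  have h2 : orderOf (π ⟨o * h, hx⟩) ∣ p ^ k := by
    rw [hπ, ← hk]
    have := orderOf_map_dvd π ⟨h, le_pairSub g hh⟩
    rwa [Subgroup.orderOf_mk] at this
  have h3 : π ⟨o * h, hx⟩ = 1 := orderOf_eq_one_iff.mp (Nat.eq_one_of_dvd_coprimes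
    (Nat.Coprime.pow_right k (hp.out.coprime_iff_not_dvd.mpr hord).symm) h1 h2)
  exact (QuotientGroup.eq_one_iff (⟨o * h, hx⟩ : T)).mp h3

theorem transversal_unique {g t t' : G} (ht : t ∈ pairCore p H g) (ht' : t' ∈ pairCore p H g)
    (hn : t⁻¹ * g ∈ Subgroup.normalizer (H : Set G))
    (hn' : t'⁻¹ * g ∈ Subgroup.normalizer (H : Set G)) : t = t' := by
  have h : t⁻¹ * t' = 1 := by
    refine E.eq_one_of_mem_normalizer (mul_mem (inv_mem ht) ht') ?_
    simpa [mul_assoc] using mul_mem hn (inv_mem hn')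
  exact inv_mul_eq_one.mp h

theorem exists_transversal (g : G) :
    ∃ t ∈ pairCore p H g, t⁻¹ * g ∈ Subgroup.normalizer (H : Set G) := by
  obtain ⟨t, ht, hconj⟩ := Lib.Coprime.exists_conj_eq_of_le_sup (N := pairCore p H g) (H := H)
    (K := H.map (MulAut.conj g).toMonoidHom) (E.normalize_core g) (E.coprime_card g)
    (Or.inr (isSolvable_of_comm fun a b => Subtype.ext (E.mul_comm_mem a.2 b.2)))
    (Nat.card_congr (Subgroup.equivMapOfInjective _ _ (MulAut.conj g).injective).toEquiv).symm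
    (by rw [sup_comm, E.sup_pairCore]; exact le_sup_right)
  refine ⟨t, ht, mem_normalizer_of_conj_le _ fun h hh => ?_⟩
  have h1 : g * h * g⁻¹ ∈ H.map (MulAut.conj g).toMonoidHom := ⟨h, hh, rfl⟩
  rw [← hconj, Lib.Coprime.mem_conj_smul] at h1
  simpa [mul_assoc] using h1

end ECHyp

open Classical in
/-- The transversal element of `g`. -/
noncomputable def tr {G : Type*} [Group G] (p : ℕ) (H : Subgroup G) (g : G) : G :=
  if h : ∃ t ∈ pairCore p H g, t⁻¹ * g ∈ Subgroup.normalizer (H : Set G) then h.choose else 1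

/-- The component of `g` normalizing `H`. -/
noncomputable def nn {G : Type*} [Group G] (p : ℕ) (H : Subgroup G) (g : G) : G :=
  (tr p H g)⁻¹ * g

theorem tr_mul_nn (g : G) : tr p H g * nn p H g = g := by simp [nn]

namespace ECHyp

variable (E : ECHyp p H)
include E

theorem tr_mem (g : G) : tr p H g ∈ pairCore p H g := by
  rw [tr, dif_pos (E.exists_transversal g)]
  exact (E.exists_transversal g).choose_spec.1

theorem nn_mem (g : G) : nn p H g ∈ Subgroup.normalizer (H : Set G) := by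
  rw [nn, tr, dif_pos (E.exists_transversal g)]
  exact (E.exists_transversal g).choose_spec.2

theorem tr_eq {g t : G} (ht : t ∈ pairCore p H g)
    (hn : t⁻¹ * g ∈ Subgroup.normalizer (H : Set G)) : tr p H g = t :=
  E.transversal_unique (E.tr_mem g) ht (E.nn_mem g) hn

theorem nn_eq {g t : G} (ht : t ∈ pairCore p H g)
    (hn : t⁻¹ * g ∈ Subgroup.normalizer (H : Set G)) : nn p H g = t⁻¹ * g := by
  rw [nn, E.tr_eq ht hn]

theorem nn_self {m : G} (hm : m ∈ Subgroup.normalizer (H : Set G)) : nn p H m = m := by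
  rw [E.nn_eq (t := 1) (one_mem _) (by simpa using hm)]
  simp

theorem pairCore_mul_right (g : G) {m : G} (hm : m ∈ Subgroup.normalizer (H : Set G)) :
    pairCore p H (g * m) = pairCore p H g := by
  unfold pairCore
  rw [pairSub_mul_right g hm]

theorem conj_mem_pairCore_mul (g : G) {m x : G} (hm : m ∈ Subgroup.normalizer (H : Set G))
    (hx : x ∈ pairCore p H g) : m * x * m⁻¹ ∈ pairCore p H (m * g) := by
  refine E.mem_pairCore (conj_mem_pairSub_mul g hm (pairCore_le g hx)) ?_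
  have h := orderOf_injective (MulAut.conj m).toMonoidHom (MulAut.conj m).injective x
  simp only [MulEquiv.toMonoidHom_eq_coe, MonoidHom.coe_coe, MulAut.conj_apply] at h
  rw [h]
  exact not_dvd_orderOf (pairCore_coprime g) hx

theorem nn_mul_right (g : G) {m : G} (hm : m ∈ Subgroup.normalizer (H : Set G)) :
    nn p H (g * m) = nn p H g * m := by
  rw [E.nn_eq (g := g * m) (t := tr p H g) (by rw [E.pairCore_mul_right g hm]; exact E.tr_mem g)
    (by rw [← mul_assoc]; exact mul_mem (E.nn_mem g) hm), nn, mul_assoc]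

theorem nn_mul_left (g : G) {m : G} (hm : m ∈ Subgroup.normalizer (H : Set G)) :
    nn p H (m * g) = m * nn p H g := by
  have h1 : (m * tr p H g * m⁻¹)⁻¹ * (m * g) = m * nn p H g := by rw [nn]; group
  rw [E.nn_eq (E.conj_mem_pairCore_mul g hm (E.tr_mem g)) (by rw [h1]; exact mul_mem hm (E.nn_mem g)),
    h1]

theorem nn_inv (g : G) : nn p H g⁻¹ = (nn p H g)⁻¹ := by
  have h1 : (g⁻¹ * (tr p H g)⁻¹ * g)⁻¹ * g⁻¹ = (nn p H g)⁻¹ := by rw [nn]; group
  have hmem : g⁻¹ * (tr p H g)⁻¹ * g ∈ pairCore p H g⁻¹ := by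
    refine E.mem_pairCore (conj_inv_mem_pairSub g (pairCore_le g (inv_mem (E.tr_mem g)))) ?_
    have h := orderOf_injective (MulAut.conj g⁻¹).toMonoidHom (MulAut.conj g⁻¹).injective
      (tr p H g)⁻¹
    simp only [MulEquiv.toMonoidHom_eq_coe, MonoidHom.coe_coe, MulAut.conj_apply, inv_inv] at h
    rw [h]
    exact not_dvd_orderOf (pairCore_coprime g) (inv_mem (E.tr_mem g))
  rw [E.nn_eq hmem (by rw [h1]; exact inv_mem (E.nn_mem g)), h1]

/-- Conjugation of `H` by `g` factors through its transversal element. -/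
theorem nn_conj_mem (g : G) {a : G} (ha : a ∈ H) : nn p H g * a * (nn p H g)⁻¹ ∈ H :=
  conj_mem (E.nn_mem g) ha

/-- Extreme closedness passes to overgroups of `H`. -/
theorem subgroupOf (K : Subgroup G) (hHK : H ≤ K) : ECHyp p (H.subgroupOf K) where
  pgroup := E.pgroup.comap_subtype
  comm := by
    haveI := E.comm
    exact ⟨⟨fun a b => Subtype.ext (Subtype.ext (E.mul_comm_mem a.2 b.2))⟩⟩
  closed g := by
    refine le_antisymm ?_ (le_inf le_sup_left Subgroup.le_normalizer)
    rintro x ⟨hx, hn⟩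
    refine E.inter_normalizer (g := (g : G)) ?_ (mem_normalizer_of_conj_le _ fun z hz => ?_)
    · have h2 := Subgroup.mem_map_of_mem K.subtype hx
      rw [Subgroup.map_sup, Subgroup.map_subgroupOf_eq_of_le hHK, Subgroup.map_map] at h2
      refine (sup_le_sup_left ?_ H) h2
      rintro _ ⟨w, hw, rfl⟩
      exact ⟨(w : G), hw, rfl⟩
    · exact conj_mem hn (show (⟨z, hHK hz⟩ : K) ∈ H.subgroupOf K from hz)

/-- Extreme closedness passes to quotients by subgroups inside `H`. -/
theorem map_quotient {G' : Type*} [Group G'] [Finite G'] (f : G →* G')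
    (hf : Function.Surjective f) (hker : f.ker ≤ H) : ECHyp p (H.map f) where
  pgroup := E.pgroup.map f
  comm := by
    refine ⟨⟨?_⟩⟩
    rintro ⟨_, a, ha, rfl⟩ ⟨_, b, hb, rfl⟩
    exact Subtype.ext (by simp only [Subgroup.coe_mul, ← map_mul, E.mul_comm_mem ha hb])
  closed g := by
    refine le_antisymm ?_ (le_inf le_sup_left Subgroup.le_normalizer)
    rintro x ⟨hx, hn⟩
    obtain ⟨g, rfl⟩ := hf g
    have hmap : (H.map f).map (MulAut.conj (f g)).toMonoidHom =
        (H.map (MulAut.conj g).toMonoidHom).map f := by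
      rw [Subgroup.map_map, Subgroup.map_map]
      congr 1
      ext z
      simp
    rw [hmap, ← Subgroup.map_sup] at hx
    obtain ⟨y, hy, rfl⟩ := hx
    refine ⟨y, E.inter_normalizer hy (mem_normalizer_of_conj_le _ fun z hz => ?_), rfl⟩
    obtain ⟨w, hw, hwe⟩ := conj_mem hn (Subgroup.mem_map_of_mem f hz)
    have h1 : y * z * y⁻¹ * w⁻¹ ∈ f.ker := by
      rw [MonoidHom.mem_ker]
      simp [hwe]
    simpa using mul_mem (hker h1) hw

end ECHyp

end Cfsg.Agent.Lib.ExtremelyClosed
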