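import Cfsg.Agent.Lib.ExtremelyClosed.Local
import Cfsg.Agent.Lib.Blocks.Central
import Cfsg.Agent.Lib.Blocks.Sections
import Cfsg.Agent.Lib.Blocks.Exists
import Cfsg.Agent.Lib.BrauerPairs.Principal
import Cfsg.Agent.Lib.Characters.Kernel
import Cfsg.Agent.S0942

/-!
# Extremely closed abelian `p`-subgroups with two normalizer orbits

If `H` has two orbits of nontrivial elements under its normalizer, a computation with the principal
block shows that the commutators of `H` with the transversal elements generate a normal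
`p'`-subgroup.
-/

set_option autoImplicit false
set_option linter.unusedSectionVars false
set_option linter.style.haveILetI false

namespace Cfsg.Agent.Lib.ExtremelyClosed

open Cfsg Cfsg.Agent.Lib.Blocks Cfsg.Agent.Lib.Characters
open Pointwise
open scoped ComplexConjugate

universe u

variable {G : Type u} [Group G] [Fintype G] {p : ℕ} [hp : Fact p.Prime] {H : Subgroup G}

/-- The normalizer of `H` as a finite set. -/
noncomputable def normFinset (H : Subgroup G) : Finset G :=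
  (Subgroup.normalizer (H : Set G) : Set G).toFinite.toFinset

theorem mem_normFinset {m : G} : m ∈ normFinset H ↔ m ∈ Subgroup.normalizer (H : Set G) :=
  Set.Finite.mem_toFinset _

open Classical in
/-- The transversal of the normalizer. -/
noncomputable def trFinset (p : ℕ) (H : Subgroup G) : Finset G :=
  Finset.univ.filter fun g => nn p H g = 1

theorem mem_trFinset {t : G} : t ∈ trFinset p H ↔ nn p H t = 1 := by
  simp [trFinset]

theorem tr_eq_self {t : G} (ht : t ∈ trFinset p H) : tr p H t = t := by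
  simpa [mem_trFinset, nn, inv_mul_eq_one] using ht

namespace ECHyp

variable (E : ECHyp p H)
include E

theorem tr_mem_trFinset (g : G) : tr p H g ∈ trFinset p H := by
  rw [mem_trFinset, show tr p H g = g * (nn p H g)⁻¹ from eq_mul_inv_of_mul_eq (tr_mul_nn g),
    E.nn_mul_right g (inv_mem (E.nn_mem g)), mul_inv_cancel]

theorem sum_eq_sum_product {A : Type*} [AddCommMonoid A] (F : G → A) :
    ∑ g, F g = ∑ t ∈ trFinset p H, ∑ m ∈ normFinset H, F (t * m) := by
  rw [← Finset.sum_product']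
  refine Finset.sum_nbij' (fun g => (tr p H g, nn p H g)) (fun x => x.1 * x.2) ?_ (by simp) ?_ ?_
    (fun g _ => by rw [tr_mul_nn])
  · exact fun g _ => Finset.mem_product.mpr ⟨E.tr_mem_trFinset g, mem_normFinset.mpr (E.nn_mem g)⟩
  · intro g _
    exact tr_mul_nn g
  · rintro ⟨t, m⟩ hx
    obtain ⟨ht, hm⟩ := Finset.mem_product.mp hx
    have h1 : nn p H (t * m) = m := by
      rw [E.nn_mul_right t (mem_normFinset.mp hm), mem_trFinset.mp ht, one_mul]
    exact Prod.ext (by rw [show tr p H (t * m) = t * m * (nn p H (t * m))⁻¹ from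
      eq_mul_inv_of_mul_eq (tr_mul_nn _), h1, mul_inv_cancel_right]) h1

theorem self_mem_pairCore {t : G} (ht : t ∈ trFinset p H) : t ∈ pairCore p H t := by
  have h := E.tr_mem t
  rwa [tr_eq_self ht] at h

theorem conj_mem_pairCore {g a : G} (ha : a ∈ H) {o : G} (ho : o ∈ pairCore p H g) :
    a * o * a⁻¹ * o⁻¹ ∈ pairCore p H g :=
  mul_mem (conj_mem (E.normalize_core g ha) ho) (inv_mem ho)

end ECHyp

variable {M : Ideal AlgInt}

/-- A principal block character is constant on `y * pairCore` for nontrivial `y` in `H`. -/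
theorem ECHyp.char_mul_core (E : ECHyp p H) (hloc : IsLocalControl p H) (hM : IsPModular p M)
    {χ : IrrCharacter G} (hχ : χ ∈ principalBlock M G) {y : G} (hy : y ∈ H) (hy1 : y ≠ 1) {g o : G}
    (ho : o ∈ pairCore p H g) : (χ : G → ℂ) (y * o) = (χ : G → ℂ) y := by
  obtain ⟨c, hc, hcomm, n, -, hn⟩ := exists_conj_mul_fixed (E.normalize_core g hy)
    ((E.coprime_card g).symm.coprime_dvd_left (Subgroup.orderOf_dvd_natCard H hy)) ho
  rw [← hn, IsCharacter.conj_apply (irr_isCharacter χ)]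
  exact Cfsg.Agent.S0942.result p M hM y (Lib.LocalEven2.orderOf_of_mem_pgroup E.pgroup hy) c
    (hloc y hy hy1 g c hc hcomm) χ hχ

open Classical in
/-- The number of solutions `m` of `a * b ^ m = 1` in the normalizer. -/
noncomputable def solCount (H : Subgroup G) (a b : G) : ℕ :=
  ((normFinset H).filter fun m => a * (m * b * m⁻¹) = 1).card

/-- The commutator defect of a character at an element of `H`. -/
noncomputable def defect (p : ℕ) (H : Subgroup G) (χ : G → ℂ) (a : G) : ℂ :=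
  ∑ t ∈ trFinset p H, (χ (a * t * a⁻¹ * t⁻¹) - χ 1)

/-- The basic identity for a principal block character. -/
theorem ECHyp.identity (E : ECHyp p H) (hloc : IsLocalControl p H) (hM : IsPModular p M)
    {χ : IrrCharacter G} (hχ : χ ∈ principalBlock M G) {a b : G} (ha : a ∈ H) (hb : b ∈ H) :
    (Nat.card G : ℂ) * (χ : G → ℂ) a * (χ : G → ℂ) b / (χ : G → ℂ) 1 =
      ((trFinset p H).card : ℂ) * (∑ m ∈ normFinset H, (χ : G → ℂ) (a * (m * b * m⁻¹))) +
        (solCount H a b : ℂ) * defect p H (χ : G → ℂ) a := by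
  classical
  rw [← sum_char_mul_conj χ.2 a b, E.sum_eq_sum_product]
  have key : ∀ t ∈ trFinset p H, ∀ m ∈ normFinset H,
      (χ : G → ℂ) (a * (t * m * b * (t * m)⁻¹)) = (χ : G → ℂ) (a * (m * b * m⁻¹)) +
        (if a * (m * b * m⁻¹) = 1 then (χ : G → ℂ) (a * t * a⁻¹ * t⁻¹) - (χ : G → ℂ) 1 else 0) := by
    intro t ht m hm
    set b' := m * b * m⁻¹ with hb'
    have hb'H : b' ∈ H := conj_mem (mem_normFinset.mp hm) hb
    rw [show a * (t * m * b * (t * m)⁻¹) = a * (t * b' * t⁻¹) by rw [hb']; group]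
    by_cases h1 : a * b' = 1
    · rw [if_pos h1, h1, show b' = a⁻¹ from eq_inv_of_mul_eq_one_right h1]
      simp [mul_assoc]
    · rw [if_neg h1, add_zero,
        show a * (t * b' * t⁻¹) = a * b' * (b'⁻¹ * t * b' * t⁻¹) by group]
      refine E.char_mul_core hloc hM hχ (mul_mem ha hb'H) h1 (g := t) ?_
      have htO : t ∈ pairCore p H t := E.self_mem_pairCore ht
      simpa using E.conj_mem_pairCore (inv_mem hb'H) htO
  rw [Finset.sum_congr rfl fun t ht => Finset.sum_congr rfl fun m hm => key t ht m hm]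
  simp only [Finset.sum_add_distrib, Finset.sum_const, nsmul_eq_mul]
  congr 1
  rw [defect, Finset.mul_sum]
  refine Finset.sum_congr rfl fun t _ => ?_
  rw [← Finset.sum_filter, Finset.sum_const, nsmul_eq_mul]
  rfl

/-- The defects are orthogonal to the singular values of the principal block. -/
theorem ECHyp.sum_defect_eq_zero (E : ECHyp p H) [M.IsPrime] (hM : IsPModular p M) [Fintype (IrrCharacter G)]
    {x c : G} (hx : x ∈ H) (hc : p ∣ orderOf c) :
    ∑ χ ∈ (principalBlock M G).toFinite.toFinset,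
      defect p H (χ : G → ℂ) x * conj ((χ : G → ℂ) c) = 0 := by
  simp only [defect, Finset.sum_mul]
  rw [Finset.sum_comm]
  refine Finset.sum_eq_zero fun t ht => ?_
  have hB := isPBlock_principalBlock (M := M) (G := G)
  have h1 : ¬ p ∣ orderOf (x * t * x⁻¹ * t⁻¹) := by
    exact not_dvd_orderOf (pairCore_coprime t) (E.conj_mem_pairCore hx (E.self_mem_pairCore ht))
  have h2 := finsum_regular_singular_eq_zero hM hB h1 hc
  have h3 := finsum_regular_singular_eq_zero hM hB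
    (show ¬ p ∣ orderOf (1 : G) by rw [orderOf_one, Nat.dvd_one]; exact hp.out.ne_one) hc
  rw [finsum_mem_eq_finite_toFinset_sum _ (Set.toFinite _)] at h2 h3
  simp only [sub_mul, Finset.sum_sub_distrib]
  rw [h2, h3, sub_zero]

/-- If `c` is not conjugate in the normalizer to `a⁻¹`, the defects at `a` of the principal block
characters not vanishing at `c` are zero. -/
theorem ECHyp.defect_eq_zero (E : ECHyp p H) [M.IsPrime] (hloc : IsLocalControl p H)
    (hM : IsPModular p M) {a c : G} (ha : a ∈ H) (hc : c ∈ H) (hc1 : c ≠ 1)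
    (hne : ∀ m ∈ Subgroup.normalizer (H : Set G), m * c * m⁻¹ ≠ a⁻¹)
    {χ : IrrCharacter G} (hχ : χ ∈ principalBlock M G) (hχc : (χ : G → ℂ) c ≠ 0) :
    ∀ t ∈ trFinset p H, (χ : G → ℂ) (a * t * a⁻¹ * t⁻¹) = (χ : G → ℂ) 1 := by
  classical
  haveI := Fintype.ofFinite (IrrCharacter G)
  set S := (principalBlock M G).toFinite.toFinset with hS
  set R : ℂ := ((trFinset p H).card : ℂ) with hR
  set N := normFinset H
  have hcp : p ∣ orderOf c := by
    obtain ⟨k, hk⟩ := Lib.LocalEven2.orderOf_of_mem_pgroup E.pgroup hc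
    rw [hk]
    rcases Nat.eq_zero_or_pos k with rfl | hk0
    · rw [pow_zero, orderOf_eq_one_iff] at hk; exact absurd hk hc1
    · exact dvd_pow_self p hk0.ne'
  have hz : solCount H a c = 0 := by
    rw [solCount, Finset.card_eq_zero, Finset.filter_eq_empty_iff]
    exact fun m hm h => hne m (mem_normFinset.mp hm) (eq_inv_of_mul_eq_one_right h)
  have hpos : 0 < solCount H a a⁻¹ := by
    rw [solCount, Finset.card_pos]
    exact ⟨1, Finset.mem_filter.mpr ⟨mem_normFinset.mpr (one_mem _), by simp⟩⟩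
  have hR0 : R ≠ 0 := by
    rw [hR, Nat.cast_ne_zero, Finset.card_ne_zero]
    exact ⟨tr p H 1, E.tr_mem_trFinset 1⟩
  have hassoc : ∀ ψ ∈ S, (Nat.card G : ℂ) * (ψ : G → ℂ) c / (ψ : G → ℂ) 1 *
      ((solCount H a a⁻¹ : ℂ) * defect p H (ψ : G → ℂ) a) =
      R * (∑ k ∈ N, (solCount H (a * (k * c * k⁻¹)) a⁻¹ : ℂ) *
          defect p H (ψ : G → ℂ) (a * (k * c * k⁻¹))) -
        R * (∑ m ∈ N, (solCount H (a * (m * a⁻¹ * m⁻¹)) c : ℂ) *
          defect p H (ψ : G → ℂ) (a * (m * a⁻¹ * m⁻¹))) := by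
    intro ψ hψ
    have hψB : ψ ∈ principalBlock M G := (Set.Finite.mem_toFinset _).mp hψ
    set f := (ψ : G → ℂ)
    set C₀ : ℂ := (Nat.card G : ℂ)
    have i1 := E.identity hloc hM hψB ha (inv_mem ha)
    have i2 := E.identity hloc hM hψB ha hc
    have j1 : C₀ / f 1 * f c * (∑ m ∈ N, f (a * (m * a⁻¹ * m⁻¹))) =
        R * (∑ m ∈ N, ∑ k ∈ N, f (a * (m * a⁻¹ * m⁻¹) * (k * c * k⁻¹))) +
        ∑ m ∈ N, (solCount H (a * (m * a⁻¹ * m⁻¹)) c : ℂ) *
          defect p H f (a * (m * a⁻¹ * m⁻¹)) := by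
      rw [Finset.mul_sum, Finset.mul_sum, ← Finset.sum_add_distrib]
      refine Finset.sum_congr rfl fun m hm => ?_
      rw [← E.identity hloc hM hψB (mul_mem ha (conj_mem (mem_normFinset.mp hm) (inv_mem ha))) hc]
      ring
    have j2 : C₀ / f 1 * f a⁻¹ * (∑ k ∈ N, f (a * (k * c * k⁻¹))) =
        R * (∑ k ∈ N, ∑ m ∈ N, f (a * (k * c * k⁻¹) * (m * a⁻¹ * m⁻¹))) +
        ∑ k ∈ N, (solCount H (a * (k * c * k⁻¹)) a⁻¹ : ℂ) *
          defect p H f (a * (k * c * k⁻¹)) := by
      rw [Finset.mul_sum, Finset.mul_sum, ← Finset.sum_add_distrib]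
      refine Finset.sum_congr rfl fun m hm => ?_
      rw [← E.identity hloc hM hψB (mul_mem ha (conj_mem (mem_normFinset.mp hm) hc)) (inv_mem ha)]
      ring
    have hswap : (∑ k ∈ N, ∑ m ∈ N, f (a * (k * c * k⁻¹) * (m * a⁻¹ * m⁻¹))) =
        ∑ m ∈ N, ∑ k ∈ N, f (a * (m * a⁻¹ * m⁻¹) * (k * c * k⁻¹)) := by
      rw [Finset.sum_comm]
      refine Finset.sum_congr rfl fun m hm => Finset.sum_congr rfl fun k hk => ?_
      rw [mul_assoc, mul_assoc a, E.mul_comm_mem (conj_mem (mem_normFinset.mp hk) hc)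
        (conj_mem (mem_normFinset.mp hm) (inv_mem ha))]
    rw [hswap] at j2
    rw [hz] at i2
    push_cast at i2
    linear_combination R * j2 - R * j1 - (C₀ * f c / f 1) * i1 + (C₀ * f a⁻¹ / f 1) * i2
  have hsum : ∑ ψ ∈ S, (Nat.card G : ℂ) * (solCount H a a⁻¹ : ℂ) *
      ((ψ : G → ℂ) c * conj ((ψ : G → ℂ) c) / (ψ : G → ℂ) 1 * defect p H (ψ : G → ℂ) a) = 0 := by
    have h0 : ∀ x ∈ H, ∑ ψ ∈ S, defect p H (ψ : G → ℂ) x * conj ((ψ : G → ℂ) c) = 0 :=
      fun x hx => E.sum_defect_eq_zero hM hx hcp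
    refine (Finset.sum_congr rfl (g := fun ψ : IrrCharacter G =>
      (R * (∑ k ∈ N, (solCount H (a * (k * c * k⁻¹)) a⁻¹ : ℂ) *
          defect p H (ψ : G → ℂ) (a * (k * c * k⁻¹))) -
        R * (∑ m ∈ N, (solCount H (a * (m * a⁻¹ * m⁻¹)) c : ℂ) *
          defect p H (ψ : G → ℂ) (a * (m * a⁻¹ * m⁻¹)))) * conj ((ψ : G → ℂ) c))
      fun ψ hψ => by rw [← hassoc ψ hψ]; ring).trans ?_
    simp only [sub_mul, Finset.mul_sum, Finset.sum_mul, Finset.sum_sub_distrib]
    rw [Finset.sum_comm, Finset.sum_eq_zero, Finset.sum_comm, Finset.sum_eq_zero, sub_zero]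
    · intro m hm
      have h := h0 _ (mul_mem ha (conj_mem (mem_normFinset.mp hm) (inv_mem ha)))
      simp only [mul_assoc, ← Finset.mul_sum] at h ⊢
      rw [h, mul_zero, mul_zero]
    · intro k hk
      have h := h0 _ (mul_mem ha (conj_mem (mem_normFinset.mp hk) hc))
      simp only [mul_assoc, ← Finset.mul_sum] at h ⊢
      rw [h, mul_zero, mul_zero]
  rw [← Finset.mul_sum] at hsum
  have hsum' := (mul_eq_zero.mp hsum).resolve_left (mul_ne_zero
    (Nat.cast_ne_zero.mpr Nat.card_pos.ne') (Nat.cast_ne_zero.mpr hpos.ne'))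
  -- every summand has nonpositive real part
  have hre : ∀ ψ : IrrCharacter G, ∀ z : G, (((ψ : G → ℂ) z) - (ψ : G → ℂ) 1).re ≤ 0 := fun ψ z => by
    rw [Complex.sub_re, sub_nonpos]
    exact (Complex.re_le_norm _).trans (IsCharacter.norm_le_re (irr_isCharacter ψ) z)
  have hterm : ∀ ψ : IrrCharacter G, ((ψ : G → ℂ) c * conj ((ψ : G → ℂ) c) / (ψ : G → ℂ) 1 *
      defect p H (ψ : G → ℂ) a).re = Complex.normSq ((ψ : G → ℂ) c) / ((ψ : G → ℂ) 1).re *
        (∑ t ∈ trFinset p H, (((ψ : G → ℂ) (a * t * a⁻¹ * t⁻¹)) - (ψ : G → ℂ) 1).re) := fun ψ => by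
    obtain ⟨n, hn⟩ := IsCharacter.exists_apply_one (irr_isCharacter ψ)
    rw [Complex.mul_conj, hn, show ((n : ℂ)) = ((n : ℝ) : ℂ) from (Complex.ofReal_natCast n).symm,
      ← Complex.ofReal_div, Complex.re_ofReal_mul, Complex.ofReal_re, defect, Complex.re_sum, hn]
    simp
  have h0 := congrArg Complex.re hsum'
  rw [Complex.re_sum, Complex.zero_re, Finset.sum_congr rfl fun ψ _ => hterm ψ] at h0
  have hdeg : ∀ ψ : IrrCharacter G, 0 < ((ψ : G → ℂ) 1).re := fun ψ => by
    obtain ⟨n, hn⟩ := IsCharacter.exists_apply_one (irr_isCharacter ψ)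
    have := IsIrrCharacter.apply_one_ne_zero ψ.2
    rw [hn, Nat.cast_ne_zero] at this
    rw [hn, Complex.natCast_re, Nat.cast_pos]
    exact Nat.pos_of_ne_zero this
  have hχ0 := (Finset.sum_eq_zero_iff_of_nonpos fun ψ _ => mul_nonpos_of_nonneg_of_nonpos
    (div_nonneg (Complex.normSq_nonneg _) (hdeg ψ).le)
    (Finset.sum_nonpos fun t _ => hre ψ _)).mp h0 χ ((Set.Finite.mem_toFinset _).mpr hχ)
  have hz0 := (mul_eq_zero.mp hχ0).resolve_left
    (div_pos (Complex.normSq_pos.mpr hχc) (hdeg χ)).ne'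
  intro t ht
  have h1 := (Finset.sum_eq_zero_iff_of_nonpos fun t _ => hre χ _).mp hz0 t ht
  rw [Complex.sub_re, sub_eq_zero] at h1
  obtain ⟨n, hn⟩ := IsCharacter.exists_apply_one (irr_isCharacter χ)
  have h2 := IsCharacter.norm_le_re (irr_isCharacter χ) (a * t * a⁻¹ * t⁻¹)
  rw [hn] at h1 h2 ⊢
  rw [Complex.natCast_re] at h1 h2
  have h3 : ((χ : G → ℂ) (a * t * a⁻¹ * t⁻¹)).im = 0 := by
    have h4 := Complex.sq_norm ((χ : G → ℂ) (a * t * a⁻¹ * t⁻¹))
    rw [Complex.normSq_apply, h1] at h4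
    nlinarith [norm_nonneg ((χ : G → ℂ) (a * t * a⁻¹ * t⁻¹))]
  exact Complex.ext (by rw [h1, Complex.natCast_re]) (by rw [h3, Complex.natCast_im])

/-- An element `c` of `H` whose inverse's orbit does not exhaust `H`. -/
theorem closure_eq_of_two_orbits {H : Subgroup G} {a₀ c₀ : G} (ha : a₀ ∈ H) (hc : c₀ ∈ H)
    (ha1 : a₀ ≠ 1) (hc1 : c₀ ≠ 1)
    (hne : ∀ m ∈ Subgroup.normalizer (H : Set G), m * a₀ * m⁻¹ ≠ c₀) :
    ∃ c ∈ H, c ≠ 1 ∧ H ≤ Subgroup.closure
      {x : G | x ∈ H ∧ ∀ m ∈ Subgroup.normalizer (H : Set G), m * c * m⁻¹ ≠ x⁻¹} := by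
  set S : G → Set G := fun c =>
    {x | x ∈ H ∧ ∀ m ∈ Subgroup.normalizer (H : Set G), m * c * m⁻¹ ≠ x⁻¹}
  by_cases h1 : H ≤ Subgroup.closure (S a₀)
  · exact ⟨a₀, ha, ha1, h1⟩
  refine ⟨c₀, hc, hc1, ?_⟩
  have hcover : ∀ x ∈ H, x ∈ S a₀ ∨ x ∈ S c₀ := by
    intro x hx
    by_contra hcon
    simp only [S, Set.mem_ofPred_eq, hx, true_and, not_or, not_forall, not_not, exists_prop] at hcon
    obtain ⟨⟨m, hm, h2⟩, m', hm', h3⟩ := hcon
    refine hne (m'⁻¹ * m) (mul_mem (inv_mem hm') hm) ?_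
    have h4 := h3.trans h2.symm
    calc m'⁻¹ * m * a₀ * (m'⁻¹ * m)⁻¹ = m'⁻¹ * (m * a₀ * m⁻¹) * m' := by group
      _ = c₀ := by rw [← h4]; group
  by_contra h2
  obtain ⟨x, hx, hx'⟩ := SetLike.not_le_iff_exists.mp h1
  obtain ⟨y, hy, hy'⟩ := SetLike.not_le_iff_exists.mp h2
  have hxc : x ∈ Subgroup.closure (S c₀) :=
    Subgroup.subset_closure ((hcover x hx).resolve_left fun h => hx' (Subgroup.subset_closure h))
  have hya : y ∈ Subgroup.closure (S a₀) :=
    Subgroup.subset_closure ((hcover y hy).resolve_right fun h => hy' (Subgroup.subset_closure h))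
  rcases hcover (x * y) (mul_mem hx hy) with h | h
  · exact hx' (by simpa using mul_mem (Subgroup.subset_closure h) (inv_mem hya))
  · exact hy' (by simpa using mul_mem (inv_mem hxc) (Subgroup.subset_closure h))

/-- Two normalizer orbits on `H` force the factorization. -/
theorem ECHyp.sup_eq_top_of_two_orbits (E : ECHyp p H) (hloc : IsLocalControl p H) {a₀ c₀ : G}
    (ha : a₀ ∈ H) (hc : c₀ ∈ H) (ha1 : a₀ ≠ 1) (hc1 : c₀ ≠ 1)
    (hne : ∀ m ∈ Subgroup.normalizer (H : Set G), m * a₀ * m⁻¹ ≠ c₀) :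
    Subgroup.normalizer (H : Set G) ⊔ pPrimeCore p G = ⊤ := by
  classical
  obtain ⟨M, hM⟩ := exists_isPModular hp.out
  haveI := isPrime_of_isPModular hM
  set K := Subgroup.normalClosure
    {x : G | ∃ a ∈ H, ∃ t ∈ trFinset p H, a * t * a⁻¹ * t⁻¹ = x} with hK
  have hgood : ∀ c ∈ H, c ≠ 1 → H ≤ Subgroup.closure
      {x : G | x ∈ H ∧ ∀ m ∈ Subgroup.normalizer (H : Set G), m * c * m⁻¹ ≠ x⁻¹} →
      ∀ χ ∈ principalBlock M G, ∀ _ : (χ : IrrCharacter G).1 c ≠ 0,
        K ≤ charKernel (irr_isCharacter χ) := by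
    intro c hcH hcne hgen χ hχ hχc
    set L := charKernel (irr_isCharacter χ) with hL
    refine Subgroup.normalClosure_le_normal ?_
    rintro _ ⟨a, haH, t, ht, rfl⟩
    have hsub : Subgroup.closure
        {x : G | x ∈ H ∧ ∀ m ∈ Subgroup.normalizer (H : Set G), m * c * m⁻¹ ≠ x⁻¹} ≤
        (Subgroup.centralizer ({QuotientGroup.mk' L t} : Set (G ⧸ L))).comap (QuotientGroup.mk' L) := by
      rw [Subgroup.closure_le]
      rintro x ⟨hx, hxne⟩
      rw [SetLike.mem_coe, Subgroup.mem_comap, Subgroup.mem_centralizer_singleton_iff]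
      have h1 : x * t * x⁻¹ * t⁻¹ ∈ L :=
        (mem_charKernel _).mpr (E.defect_eq_zero hloc hM hx hcH hcne hxne hχ hχc t ht)
      rw [← QuotientGroup.eq_one_iff] at h1
      have h2 : QuotientGroup.mk' L x * QuotientGroup.mk' L t * (QuotientGroup.mk' L x)⁻¹ *
          (QuotientGroup.mk' L t)⁻¹ = 1 := h1
      exact Lib.LocalEven2.commute_of_commutator_eq_one h2
    have h3 := Subgroup.mem_centralizer_singleton_iff.mp (hsub (hgen haH))
    show a * t * a⁻¹ * t⁻¹ ∈ L
    rw [← QuotientGroup.eq_one_iff]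
    show QuotientGroup.mk' L (a * t * a⁻¹ * t⁻¹) = 1
    rw [map_mul, map_mul, map_mul, map_inv, map_inv, h3]
    group
  haveI hKn : K.Normal := Subgroup.normalClosure_normal
  by_cases hKp : (Nat.card K).Coprime p
  · refine sup_pPrimeCore_eq_top_of_conj E.pgroup
      (isSolvable_of_comm fun a b => Subtype.ext (E.mul_comm_mem a.2 b.2)) hKp fun g h hh => ?_
    set t := tr p H g with ht0
    set h' := nn p H g * h * (nn p H g)⁻¹ with hh'
    have hmem : h'⁻¹ * t * h' * t⁻¹ ∈ K := Subgroup.subset_normalClosure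
      ⟨h'⁻¹, inv_mem (E.nn_conj_mem g hh), t, E.tr_mem_trFinset g, by rw [inv_inv]⟩
    rw [show g * h * g⁻¹ = h' * (h'⁻¹ * t * h' * t⁻¹) by
      conv_lhs => rw [← tr_mul_nn (p := p) (H := H) g]
      rw [hh', ← ht0]; group]
    exact mul_mem (Subgroup.mem_sup_right (E.nn_conj_mem g hh)) (Subgroup.mem_sup_left hmem)
  exfalso
  -- a good element and a `p`-element of its coset that is not conjugate to it
  obtain ⟨c, hcH, hcne, hgen, s, hs, hcs, hsc⟩ : ∃ c ∈ H, c ≠ 1 ∧ H ≤ Subgroup.closure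
      {x : G | x ∈ H ∧ ∀ m ∈ Subgroup.normalizer (H : Set G), m * c * m⁻¹ ≠ x⁻¹} ∧
      ∃ s : G, (∃ k : ℕ, orderOf s = p ^ k) ∧ c⁻¹ * s ∈ K ∧ ¬ IsConj s c := by
    obtain ⟨cg, hcgH, hcg1, hcg⟩ := closure_eq_of_two_orbits ha hc ha1 hc1 hne
    have hone : ∀ c : G, c ≠ 1 → c ∈ K →
        ∃ s : G, (∃ k : ℕ, orderOf s = p ^ k) ∧ c⁻¹ * s ∈ K ∧ ¬ IsConj s c := fun c h1 h2 =>
      ⟨1, ⟨0, by simp⟩, by simpa using h2, by rw [isConj_one_right]; exact h1⟩
    by_cases hHK : H ≤ K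
    · exact ⟨cg, hcgH, hcg1, hcg, hone cg hcg1 (hHK hcgH)⟩
    by_cases hint : H ⊓ K = ⊥
    · obtain ⟨P, hP⟩ := E.pgroup.exists_le_sylow
      have hdvd : p ∣ Nat.card K := by
        by_contra h
        exact hKp (hp.out.coprime_iff_not_dvd.mpr h).symm
      obtain ⟨x, hx⟩ := exists_prime_orderOf_dvd_card' p hdvd
      obtain ⟨g, -, hg⟩ := Lib.LocalEven2.exists_conj_le P (H := ⊤)
        (R := Subgroup.zpowers (x : G)) le_top
        (Lib.LocalEven2.isPGroup_zpowers ⟨1, by rw [Subgroup.orderOf_coe, hx, pow_one]⟩) le_top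
      set u := g⁻¹ * (x : G) * g with hu
      have huP : u ∈ (P : Subgroup G) :=
        Lib.LocalEven2.mem_smul_sylow.mp (hg (Subgroup.mem_zpowers _))
      have huK : u ∈ K := by simpa [hu] using hKn.conj_mem _ x.2 g⁻¹
      have hu1 : u ≠ 1 := fun h => by
        have h' : (x : G) = 1 := by rw [show (x : G) = g * u * g⁻¹ by rw [hu]; group, h]; group
        rw [show x = 1 from Subtype.ext h', orderOf_one] at hx
        exact hp.out.ne_one hx.symm
      refine ⟨cg, hcgH, hcg1, hcg, cg * u,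
        Lib.LocalEven2.orderOf_of_mem_pgroup P.2 (mul_mem (hP hcgH) huP), by simpa using huK,
        fun hconj => hu1 ?_⟩
      obtain ⟨w, hw⟩ := isConj_iff.mp hconj.symm
      have h1 := ((Cfsg.Agent.S3021.result H E.pgroup E.closed).2 P hP).2.2 cg hcgH w
        (by rw [hw]; exact mul_mem (hP hcgH) huP)
      rw [hw] at h1
      have h2 : u ∈ H ⊓ K := ⟨by simpa using mul_mem (inv_mem hcgH) h1, huK⟩
      rwa [hint, Subgroup.mem_bot] at h2
    · obtain ⟨c, hc', hcne⟩ := (Subgroup.bot_or_exists_ne_one (H ⊓ K)).resolve_left hint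
      refine ⟨c, hc'.1, hcne, ?_, hone c hcne hc'.2⟩
      obtain ⟨y, hy, hyK⟩ := SetLike.not_le_iff_exists.mp hHK
      have hout : ∀ z ∈ H, z ∉ K → z ∈ Subgroup.closure
          {x : G | x ∈ H ∧ ∀ m ∈ Subgroup.normalizer (H : Set G), m * c * m⁻¹ ≠ x⁻¹} :=
        fun z hz hzK => Subgroup.subset_closure ⟨hz, fun m _ h => hzK (by
          rw [← inv_inv z, ← h]
          exact inv_mem (hKn.conj_mem c hc'.2 m))⟩
      intro z hz
      by_cases hzK : z ∈ K
      · have := mul_mem (hout (z * y) (mul_mem hz hy)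
          fun h => hyK (by simpa using mul_mem (inv_mem hzK) h)) (inv_mem (hout y hy hyK))
        simpa using this
      · exact hout z hz hzK
  -- orthogonality of the two sections
  have horth := finsum_mul_conj_eq_zero hM (isPBlock_principalBlock (M := M) (G := G))
    (g := s) (h := c) (x := s) (y := c)
    ⟨1, mul_one s, Commute.one_right s, hs, by rw [orderOf_one, Nat.dvd_one]; exact hp.out.ne_one⟩
    ⟨1, mul_one c, Commute.one_right c, Lib.LocalEven2.orderOf_of_mem_pgroup E.pgroup hcH,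
      by rw [orderOf_one, Nat.dvd_one]; exact hp.out.ne_one⟩ (Or.inl hsc)
  rw [finsum_mem_eq_finite_toFinset_sum _ (Set.toFinite _)] at horth
  have hval : ∀ χ ∈ (principalBlock M G).toFinite.toFinset,
      ((χ : G → ℂ) s * conj ((χ : G → ℂ) c)) = ((Complex.normSq ((χ : G → ℂ) c) : ℝ) : ℂ) := by
    intro χ hχ
    by_cases h0 : (χ : G → ℂ) c = 0
    · simp [h0]
    have hker := hgood c hcH hcne hgen χ ((Set.Finite.mem_toFinset _).mp hχ) h0 hcs
    rw [← Complex.mul_conj, show s = c * (c⁻¹ * s) by group,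
      IsCharacter.apply_mul_of_mem_kernel (irr_isCharacter χ) ((mem_charKernel _).mp hker)]
  rw [Finset.sum_congr rfl hval, ← Complex.ofReal_sum, Complex.ofReal_eq_zero,
    Finset.sum_eq_zero_iff_of_nonneg fun χ _ => Complex.normSq_nonneg _] at horth
  have h1 := horth (trivIrr G) ((Set.Finite.mem_toFinset _).mpr
    Cfsg.Agent.Lib.BrauerPairs.trivIrr_mem_principalBlock)
  simp at h1

end Cfsg.Agent.Lib.ExtremelyClosed
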