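import Cfsg.Agent.Lib.ExtremelyClosed.Local
import Cfsg.Agent.Lib.Coprime.Generation

/-!
# Extremely closed abelian `p`-subgroups with one normalizer orbit

When the normalizer is transitive on the nontrivial elements of `H`, the map `nn` is a homomorphism
modulo the centralizer of `H`.
-/

set_option autoImplicit false
set_option linter.unusedSectionVars false

namespace Cfsg.Agent.Lib.ExtremelyClosed

open Cfsg
open Pointwise

universe u

variable {G : Type u} [Group G] [Finite G] {p : ℕ} [hp : Fact p.Prime] {H : Subgroup G}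

theorem conj_mem_centralizer {m c : G} (hm : m ∈ Subgroup.normalizer (H : Set G))
    (hc : c ∈ Subgroup.centralizer (H : Set G)) :
    m * c * m⁻¹ ∈ Subgroup.centralizer (H : Set G) := by
  rw [Subgroup.mem_centralizer_iff] at hc ⊢
  intro h hh
  have h1 := hc (m⁻¹ * h * m) ((Subgroup.mem_normalizer_iff''.mp hm h).mp hh)
  calc h * (m * c * m⁻¹) = m * ((m⁻¹ * h * m) * c) * m⁻¹ := by group
    _ = m * c * m⁻¹ * h := by rw [h1]; group

namespace ECHyp

variable (E : ECHyp p H)
include E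

theorem nn_core_mul {x o : G} (ho : o ∈ pairCore p H x) : nn p H (o * x) = nn p H x := by
  have hle : pairSub H (o * x) ≤ pairSub H x := by
    refine sup_le (le_pairSub x) ?_
    rintro _ ⟨h, hh, rfl⟩
    have := mul_mem (mul_mem (pairCore_le x ho) (conj_mem_pairSub x hh))
      (inv_mem (pairCore_le x ho))
    simpa [mul_assoc] using this
  have ht : tr p H (o * x) ∈ pairCore p H x :=
    E.mem_pairCore (hle (pairCore_le _ (E.tr_mem _)))
      (not_dvd_orderOf (pairCore_coprime _) (E.tr_mem _))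
  have h1 : (o * tr p H x)⁻¹ * tr p H (o * x) = 1 := by
    refine E.eq_one_of_mem_normalizer (mul_mem (inv_mem (mul_mem ho (E.tr_mem x))) ht) ?_
    have h2 : (o * tr p H x)⁻¹ * tr p H (o * x) = nn p H x * (nn p H (o * x))⁻¹ := by
      rw [nn, nn]; group
    rw [h2]
    exact mul_mem (E.nn_mem x) (inv_mem (E.nn_mem _))
  rw [inv_mul_eq_one] at h1
  rw [nn, ← h1, nn]
  group

theorem mem_normalizer_of_commute {a o : G} (hgen : H ≤ Subgroup.zpowers a) (h : Commute a o) :
    o ∈ Subgroup.normalizer (H : Set G) := mem_normalizer_of_conj_le _ fun z hz => by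
  obtain ⟨j, rfl⟩ := Subgroup.mem_zpowers_iff.mp (hgen hz)
  rw [← (h.zpow_left j).eq]
  simpa using hz

/-- The transversal element of an element mapping `a` into `H` centralizes the image. -/
theorem tr_commute {z a a₀ : G} (ha : a ∈ H) (ha₀ : a₀ ∈ H) (hz : z * a * z⁻¹ = a₀) :
    Commute a₀ (tr p H z) ∧ nn p H z * a * (nn p H z)⁻¹ = a₀ := by
  set t := tr p H z with ht
  set a' := nn p H z * a * (nn p H z)⁻¹ with ha'
  have ha'H : a' ∈ H := E.nn_conj_mem z ha
  have h1 : t * a' * t⁻¹ = a₀ := by rw [← hz, ← tr_mul_nn (p := p) (H := H) z, ha', ← ht]; group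
  have h2 : a₀ * a'⁻¹ = 1 := by
    have hO : t * (a' * t⁻¹ * a'⁻¹) ∈ pairCore p H z :=
      mul_mem (E.tr_mem z) (conj_mem (E.normalize_core z ha'H) (inv_mem (E.tr_mem z)))
    have h3 : a₀ * a'⁻¹ = t * (a' * t⁻¹ * a'⁻¹) := by rw [← h1]; group
    have h4 : a₀ * a'⁻¹ ∈ H ⊓ pairCore p H z :=
      ⟨H.mul_mem ha₀ (H.inv_mem ha'H), by rw [h3]; exact hO⟩
    rwa [E.inf_pairCore z, Subgroup.mem_bot] at h4
  have h5 : a₀ = a' := mul_inv_eq_one.mp h2
  refine ⟨?_, h5.symm⟩
  show a₀ * t = t * a₀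
  conv_lhs => rw [← h1]
  rw [← h5]
  group

/-- Right translation by a fixed point of a pair core does not change `nn` modulo `C(H)`. -/
theorem nn_mul_fixed (hloc : IsLocalControl p H) {a : G} (ha : a ∈ H) (ha1 : a ≠ 1) {g u : G}
    (hu : u ∈ pairCore p H g) (hau : Commute a u) (x : G) :
    (nn p H (x * u))⁻¹ * nn p H x ∈ Subgroup.centralizer (H : Set G) := by
  set a' := x * a * x⁻¹ with ha'
  have ha'1 : a' ∈ pairSub H x := conj_mem_pairSub x ha
  have ha'2 : a' ∈ pairSub H (x * u) := by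
    have h1 : a' = x * u * a * (x * u)⁻¹ := by
      rw [ha', show x * u * a * (x * u)⁻¹ = x * (u * a) * u⁻¹ * x⁻¹ by group, ← hau.eq]; group
    rw [h1]
    exact conj_mem_pairSub _ ha
  set L := H ⊔ Subgroup.zpowers a' with hL
  have hL1 : L ≤ pairSub H x := sup_le (le_pairSub _) (Subgroup.zpowers_le.mpr ha'1)
  have hL2 : L ≤ pairSub H (x * u) := sup_le (le_pairSub _) (Subgroup.zpowers_le.mpr ha'2)
  set K := pairCore p H x ⊓ L with hK
  set a₁ := nn p H x * a * (nn p H x)⁻¹ with ha₁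
  have ha₁H : a₁ ∈ H := E.nn_conj_mem x ha
  have ha₁L : a₁ ∈ L := Subgroup.mem_sup_left ha₁H
  have ha₁K : a₁ ∈ Subgroup.normalizer (K : Set G) := mem_normalizer_of_conj_le _ fun y hy =>
    ⟨conj_mem (E.normalize_core x ha₁H) hy.1,
      L.mul_mem (L.mul_mem ha₁L hy.2) (L.inv_mem ha₁L)⟩
  have ho : a₁⁻¹ * a' ∈ K := by
    refine ⟨?_, L.mul_mem (L.inv_mem ha₁L) (Subgroup.mem_sup_right (Subgroup.mem_zpowers a'))⟩
    have h1 : a₁⁻¹ * a' = (a₁⁻¹ * tr p H x * a₁) * (tr p H x)⁻¹ := by
      rw [ha', ha₁, nn]; group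
    rw [h1]
    refine Subgroup.mul_mem _ ?_ (Subgroup.inv_mem _ (E.tr_mem x))
    simpa using conj_mem (E.normalize_core x (inv_mem ha₁H)) (E.tr_mem x)
  have hcopK : (orderOf a₁).Coprime (Nat.card K) :=
    ((E.coprime_card x).symm.coprime_dvd_left (Subgroup.orderOf_dvd_natCard H ha₁H)).coprime_dvd_right
      (Subgroup.card_dvd_of_le inf_le_left)
  obtain ⟨c, hc, hcomm, n, hn, heq⟩ := exists_conj_mul_fixed ha₁K hcopK ho
  rw [mul_inv_cancel_left] at heq
  have hc1 : c = 1 := by
    have h2 : orderOf (a₁ * c) = orderOf a₁ := by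
      have e1 : orderOf (n * (a₁ * c) * n⁻¹) = orderOf (a₁ * c) :=
        orderOf_injective (MulAut.conj n).toMonoidHom (MulAut.conj n).injective _
      have e2 : orderOf a' = orderOf a :=
        orderOf_injective (MulAut.conj x).toMonoidHom (MulAut.conj x).injective _
      have e3 : orderOf a₁ = orderOf a :=
        orderOf_injective (MulAut.conj (nn p H x)).toMonoidHom
          (MulAut.conj (nn p H x)).injective _
      rw [← e1, heq, e2, e3]
    have h3 : c ^ orderOf a₁ = 1 := by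
      have h4 := pow_orderOf_eq_one (a₁ * c)
      rwa [h2, hcomm.mul_pow, pow_orderOf_eq_one, one_mul] at h4
    exact orderOf_eq_one_iff.mp (Nat.eq_one_of_dvd_coprimes hcopK (orderOf_dvd_of_pow_eq_one h3)
      (Subgroup.orderOf_dvd_natCard K hc))
  rw [hc1, mul_one] at heq
  set z := n⁻¹ * x with hz
  have hnx : n⁻¹ ∈ pairCore p H x := inv_mem hn.1
  have hnxu : n⁻¹ ∈ pairCore p H (x * u) :=
    E.mem_pairCore (inv_mem (hL2 hn.2)) (not_dvd_orderOf (pairCore_coprime x) hnx)
  rw [← E.nn_core_mul hnx, ← E.nn_core_mul hnxu, ← mul_assoc, ← hz]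
  have hza : z * a * z⁻¹ = a₁ := by
    rw [hz, show n⁻¹ * x * a * (n⁻¹ * x)⁻¹ = n⁻¹ * a' * n by rw [ha']; group, ← heq]; group
  have hzua : z * u * a * (z * u)⁻¹ = a₁ := by
    rw [show z * u * a * (z * u)⁻¹ = z * (u * a) * u⁻¹ * z⁻¹ by group, ← hau.eq, ← hza]; group
  obtain ⟨ht, hnz⟩ := E.tr_commute ha ha₁H hza
  obtain ⟨ht', hnzu⟩ := E.tr_commute ha ha₁H hzua
  have ha₁1 : a₁ ≠ 1 := fun h => ha1 (conj_eq_one_iff.mp h)
  set θ := centralizerPPrimeCore p a₁
  have hu' : nn p H z * u * (nn p H z)⁻¹ ∈ θ := by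
    have := E.conj_centralizerPPrimeCore (m := nn p H z) (hloc a ha ha1 g u hu hau)
    rwa [hnz] at this
  set w := nn p H (z * u) * (nn p H z)⁻¹ with hw
  have hwθ : w ∈ θ := by
    have h1 : w = (tr p H (z * u))⁻¹ * tr p H z * (nn p H z * u * (nn p H z)⁻¹) := by
      rw [hw, nn]
      conv_rhs => rw [← mul_assoc, ← mul_assoc, mul_assoc (tr p H (z * u))⁻¹, tr_mul_nn]
      group
    rw [h1]
    exact mul_mem (mul_mem (inv_mem (hloc a₁ ha₁H ha₁1 _ _ (E.tr_mem _) ht'))
      (hloc a₁ ha₁H ha₁1 _ _ (E.tr_mem _) ht)) hu'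
  have hwN : w ∈ Subgroup.normalizer (H : Set G) := mul_mem (E.nn_mem _) (inv_mem (E.nn_mem _))
  have hwC : w ∈ Subgroup.centralizer (H : Set G) := by
    rw [Subgroup.mem_centralizer_iff]
    intro h hh
    have h1 : h * w * h⁻¹ * w⁻¹ ∈ H := by
      have := mul_mem hh (conj_mem hwN (inv_mem hh))
      simpa [mul_assoc] using this
    have h2 : h * w * h⁻¹ * w⁻¹ ∈ θ :=
      mul_mem (conj_mem (Lib.Components.centralizer_le_normalizer_centralizerPPrimeCore a₁
        (E.le_centralizer_singleton ha₁H hh)) hwθ) (inv_mem hwθ)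
    obtain ⟨k, hk⟩ := Lib.LocalEven2.orderOf_of_mem_pgroup E.pgroup h1
    refine Lib.LocalEven2.commute_of_commutator_eq_one (orderOf_eq_one_iff.mp ?_)
    exact Nat.eq_one_of_dvd_coprimes
      ((Lib.Components.coprime_card_centralizerPPrimeCore (p := p) a₁).pow_right k)
      (Subgroup.orderOf_dvd_natCard θ h2) hk.dvd
  have h3 : (nn p H (z * u))⁻¹ * nn p H z = (nn p H z)⁻¹ * w⁻¹ * (nn p H z)⁻¹⁻¹ := by
    rw [hw]; group
  rw [h3]
  exact conj_mem_centralizer (inv_mem (E.nn_mem z)) (inv_mem hwC)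

/-- The coherence criterion. -/
theorem coherent_of_tr
    (hT : ∀ x t : G, nn p H t = 1 →
      (nn p H (x * t))⁻¹ * nn p H x ∈ Subgroup.centralizer (H : Set G)) (g g' : G) :
    (nn p H (g * g'))⁻¹ * (nn p H g * nn p H g') ∈ Subgroup.centralizer (H : Set G) := by
  set t := g' * (nn p H g')⁻¹ with ht
  have ht1 : nn p H t = 1 := by
    rw [ht, E.nn_mul_right g' (inv_mem (E.nn_mem g')), mul_inv_cancel]
  rw [show g * g' = g * t * nn p H g' by rw [ht]; group, E.nn_mul_right _ (E.nn_mem g')]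
  rw [show (nn p H (g * t) * nn p H g')⁻¹ * (nn p H g * nn p H g') =
    (nn p H g')⁻¹ * ((nn p H (g * t))⁻¹ * nn p H g) * (nn p H g')⁻¹⁻¹ by group]
  exact conj_mem_centralizer (inv_mem (E.nn_mem g')) (hT g t ht1)

theorem coherent_of_not_isCyclic (hloc : IsLocalControl p H) (hcyc : ¬ IsCyclic H) (g g' : G) :
    (nn p H (g * g'))⁻¹ * (nn p H g * nn p H g') ∈ Subgroup.centralizer (H : Set G) := by
  refine E.coherent_of_tr (fun x t ht => ?_) g g'
  have htO : t ∈ pairCore p H t := by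
    have h1 : tr p H t = t := by simpa [nn, inv_mul_eq_one] using ht
    have h := E.tr_mem t
    rwa [h1] at h
  haveI := E.comm
  have key : pairCore p H t ≤
      ({ carrier := {r | ∀ x, (nn p H (x * r))⁻¹ * nn p H x ∈ Subgroup.centralizer (H : Set G)}
         one_mem' := fun x => by simp
         mul_mem' := fun {r s} hr hs x => by
           have := mul_mem (hs (x * r)) (hr x)
           simpa [mul_assoc] using this
         inv_mem' := fun {r} hr x => by
           have := inv_mem (hr (x * r⁻¹))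
           simpa using this } : Subgroup G) := by
    rw [← Lib.Coprime.iSup_centralizer_eq hcyc (E.normalize_core t) (E.coprime_card t).symm]
    refine iSup₂_le fun a ha u hu x => ?_
    exact E.nn_mul_fixed hloc ha.1 ha.2 hu.1
      (Subgroup.mem_centralizer_singleton_iff.mp hu.2).symm x
  exact key htO x

theorem coherent_of_card_eq (hcard : Nat.card H = p) (hp3 : 3 ≤ p)
    (horb : ∀ a ∈ H, a ≠ 1 → ∀ c ∈ H, c ≠ 1 →
      ∃ m ∈ Subgroup.normalizer (H : Set G), m * a * m⁻¹ = c) (g g' : G) :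
    (nn p H (g * g'))⁻¹ * (nn p H g * nn p H g') ∈ Subgroup.centralizer (H : Set G) := by
  classical
  haveI := Fintype.ofFinite G
  set T : Finset G := Finset.univ.filter fun g => nn p H g = 1 with hTdef
  set Hs : Finset G := Finset.univ.filter fun g => g ∈ H ∧ g ≠ 1 with hHs
  have memT : ∀ {t : G}, t ∈ T ↔ nn p H t = 1 := fun {t} => by simp [hTdef]
  have memHs : ∀ {h : G}, h ∈ Hs ↔ h ∈ H ∧ h ≠ 1 := fun {h} => by simp [hHs]
  have hHN : H ≤ Subgroup.normalizer (H : Set G) := Subgroup.le_normalizer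
  have hHscard : Hs.card = p - 1 := by
    have h1 : (Finset.univ.filter fun g => g ∈ H).card = p := by
      rw [← Fintype.card_subtype, ← Nat.card_eq_fintype_card]; exact hcard
    rw [show Hs = (Finset.univ.filter fun g => g ∈ H).erase 1 by
      ext h; simp [hHs, and_comm], Finset.card_erase_of_mem (by simp), h1]
  have htr : ∀ x : G, x * (nn p H x)⁻¹ ∈ T := fun x => by
    rw [memT, E.nn_mul_right x (inv_mem (E.nn_mem x)), mul_inv_cancel]
  have hTO : ∀ t ∈ T, t ∈ pairCore p H t := fun t ht => by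
    have h1 : tr p H t = t := by simpa [nn, inv_mul_eq_one] using memT.mp ht
    have h := E.tr_mem t
    rwa [h1] at h
  have hnnT : ∀ k ∈ Subgroup.normalizer (H : Set G), ∀ t ∈ T, nn p H (k * t⁻¹) = k :=
    fun k hk t ht => by rw [E.nn_mul_left _ hk, E.nn_inv, memT.mp ht, inv_one, mul_one]
  -- the class of the nontrivial elements of `H`
  set D : Finset G := Finset.univ.filter fun d => ∃ x : G, ∃ h ∈ Hs, x * h * x⁻¹ = d with hD
  have memD : ∀ {d : G}, d ∈ D ↔ ∃ x : G, ∃ h ∈ Hs, x * h * x⁻¹ = d := fun {d} => by simp [hD]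
  have hDconj : ∀ {d : G}, d ∈ D → ∀ w : G, w * d * w⁻¹ ∈ D := by
    intro d hd w
    obtain ⟨x, h, hh, rfl⟩ := memD.mp hd
    exact memD.mpr ⟨w * x, h, hh, by group⟩
  have hDinv : ∀ {d : G}, d ∈ D → d⁻¹ ∈ D := by
    intro d hd
    obtain ⟨x, h, hh, rfl⟩ := memD.mp hd
    refine memD.mpr ⟨x, h⁻¹, memHs.mpr ⟨inv_mem (memHs.mp hh).1, inv_ne_one.mpr (memHs.mp hh).2⟩, ?_⟩
    group
  -- `D` is `Hs * T⁻¹`
  have hin : ∀ h ∈ Hs, ∀ t ∈ T, h * t⁻¹ ∈ D := by
    intro h hh t ht
    obtain ⟨hhH, hh1⟩ := memHs.mp hh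
    set O := pairCore p H t
    have hgen : H ≤ Subgroup.zpowers h :=
      le_of_eq (Subgroup.eq_of_le_of_card_ge (Subgroup.zpowers_le.mpr hhH) (le_of_eq (by
        rw [hcard, Nat.card_zpowers]
        exact ((Nat.dvd_prime hp.out).mp (hcard ▸ Subgroup.orderOf_dvd_natCard H hhH)).resolve_left
          (by rwa [orderOf_eq_one_iff]) |>.symm))).symm
    let f : ↥O → ↥O := fun u => ⟨(u : G) * h * (u : G)⁻¹ * h⁻¹, by
      have := mul_mem u.2 (conj_mem (E.normalize_core t hhH) (inv_mem u.2))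
      simpa [mul_assoc] using this⟩
    have hinj : Function.Injective f := by
      intro u v huv
      have h2 : (u : G) * h * (u : G)⁻¹ * h⁻¹ = (v : G) * h * (v : G)⁻¹ * h⁻¹ :=
        congrArg Subtype.val huv
      have h3 : Commute h ((v : G)⁻¹ * u) := by
        have h4 := congrArg (fun e => (v : G)⁻¹ * e * h * u) h2
        simp only [inv_mul_cancel_right, mul_assoc, inv_mul_cancel, inv_mul_cancel_left,
          mul_one] at h4
        simpa [Commute, SemiconjBy, mul_assoc] using h4.symm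
      have h5 := E.eq_one_of_mem_normalizer (mul_mem (inv_mem v.2) u.2)
        (E.mem_normalizer_of_commute hgen h3)
      exact Subtype.ext (inv_mul_eq_one.mp h5).symm
    obtain ⟨u, hu⟩ := Finite.surjective_of_injective hinj ⟨h * t⁻¹ * h⁻¹,
      conj_mem (E.normalize_core t hhH) (inv_mem (hTO t ht))⟩
    refine memD.mpr ⟨u, h, hh, ?_⟩
    have h6 : (u : G) * h * (u : G)⁻¹ * h⁻¹ = h * t⁻¹ * h⁻¹ := congrArg Subtype.val hu
    exact mul_right_cancel h6
  set Φ : G × G → G := fun x => x.1 * x.2⁻¹ with hΦ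
  have hΦinj : Set.InjOn Φ ↑(Hs ×ˢ T) := by
    rintro ⟨h, t⟩ h1 ⟨h', t'⟩ h2 he
    obtain ⟨a1, a2⟩ := Finset.mem_product.mp h1
    obtain ⟨b1, b2⟩ := Finset.mem_product.mp h2
    have e := congrArg (nn p H) he
    simp only [hΦ] at e he
    rw [hnnT _ (hHN (memHs.mp a1).1) _ a2, hnnT _ (hHN (memHs.mp b1).1) _ b2] at e
    subst e
    exact Prod.ext rfl (inv_injective (mul_left_cancel he))
  have hDim : (Hs ×ˢ T).image Φ = D := by
    refine Finset.eq_of_subset_of_card_le ?_ ?_
    · intro d hd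
      obtain ⟨⟨h, t⟩, hx, rfl⟩ := Finset.mem_image.mp hd
      exact hin h (Finset.mem_product.mp hx).1 t (Finset.mem_product.mp hx).2
    · rw [Finset.card_image_of_injOn hΦinj]
      refine le_trans (Finset.card_le_card (?_ : D ⊆ (Hs ×ˢ T).image fun x => x.2 * x.1 * x.2⁻¹))
        Finset.card_image_le
      intro d hd
      obtain ⟨x, h, hh, rfl⟩ := memD.mp hd
      refine Finset.mem_image.mpr
        ⟨(nn p H x * h * (nn p H x)⁻¹, x * (nn p H x)⁻¹), Finset.mem_product.mpr
          ⟨memHs.mpr ⟨E.nn_conj_mem x (memHs.mp hh).1, fun h0 => (memHs.mp hh).2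
            (conj_eq_one_iff.mp h0)⟩, htr x⟩, ?_⟩
      group
  have hrep : ∀ k ∈ Subgroup.normalizer (H : Set G), ∀ t ∈ T, (k * t⁻¹ ∈ D ↔ k ∈ Hs) := by
    intro k hk t ht
    refine ⟨fun hd => ?_, fun hkH => hin k hkH t ht⟩
    rw [← hDim, Finset.mem_image] at hd
    obtain ⟨⟨h, t'⟩, hx, he⟩ := hd
    obtain ⟨a1, a2⟩ := Finset.mem_product.mp hx
    have e := congrArg (nn p H) he
    simp only [hΦ] at e
    rw [hnnT _ (hHN (memHs.mp a1).1) _ a2, hnnT _ hk _ ht] at e
    exact e ▸ a1
  -- the number of ways of writing an element of `D` as a product in `D * D`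
  have hT1 : (1 : G) ∈ T := memT.mpr (E.nn_self (one_mem _))
  have hK : ∀ d ∈ D, (D.filter fun a => a⁻¹ * d ∈ D).card = (p - 2) * T.card := by
    intro d hd
    obtain ⟨x, h, hh, rfl⟩ := memD.mp hd
    have hmove : (D.filter fun a => a⁻¹ * (x * h * x⁻¹) ∈ D).card =
        (D.filter fun a => a⁻¹ * h ∈ D).card := by
      refine Finset.card_bij' (fun a _ => x⁻¹ * a * x) (fun a _ => x * a * x⁻¹) ?_ ?_
        (fun a _ => by group) (fun a _ => by group)
      · intro a ha
        obtain ⟨h1, h2⟩ := Finset.mem_filter.mp ha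
        refine Finset.mem_filter.mpr ⟨by simpa using hDconj h1 x⁻¹, ?_⟩
        convert hDconj h2 x⁻¹ using 1
        group
      · intro a ha
        obtain ⟨h1, h2⟩ := Finset.mem_filter.mp ha
        refine Finset.mem_filter.mpr ⟨hDconj h1 x, ?_⟩
        convert hDconj h2 x using 1
        group
    rw [hmove, ← hDim, Finset.filter_image, Finset.card_image_of_injOn
      (hΦinj.mono (Finset.coe_subset.mpr (Finset.filter_subset _ _)))]
    have hset : (Hs ×ˢ T).filter (fun a => (Φ a)⁻¹ * h ∈ (Hs ×ˢ T).image Φ) =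
        Hs.erase h ×ˢ T := by
      ext ⟨h₁, z⟩
      rw [hDim]
      simp only [Finset.mem_filter, Finset.mem_product, Finset.mem_erase, hΦ]
      constructor
      · rintro ⟨⟨a1, a2⟩, a3⟩
        refine ⟨⟨fun he => ?_, a1⟩, a2⟩
        subst he
        have h4 : (1 : G) * z⁻¹ ∈ D := by
          have := hDconj (hDinv a3) h₁
          convert hDconj (hDinv a3) 1 using 1 <;> simp [mul_assoc] at this ⊢
        exact (memHs.mp ((hrep 1 (one_mem _) z a2).mp h4)).2 rfl
      · rintro ⟨⟨a0, a1⟩, a2⟩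
        refine ⟨⟨a1, a2⟩, ?_⟩
        have hk : h⁻¹ * h₁ ∈ Hs := memHs.mpr ⟨mul_mem (inv_mem (memHs.mp hh).1) (memHs.mp a1).1,
          fun e => a0 (inv_mul_eq_one.mp e).symm⟩
        have h4 := hDinv (hin _ hk z a2)
        convert h4 using 1
        group
    rw [hset, Finset.card_product, Finset.card_erase_of_mem hh, hHscard, Nat.sub_sub]
  -- few incoherent middle points
  have hfew : ∀ y ∈ T, 3 * (T.filter fun z =>
      nn p H (z⁻¹ * y) ∉ Subgroup.centralizer (H : Set G)).card < T.card := by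
    intro y hy
    set k : G → G := fun z => nn p H (z⁻¹ * y) with hk
    set F : G → Finset (G × G) := fun z =>
      (Hs ×ˢ Hs).filter fun q => q.1⁻¹ * q.2 * (k z)⁻¹ ∈ Hs with hF
    have hiff : ∀ z ∈ T, ∀ h₁ ∈ Hs, ∀ h ∈ Hs,
        ((h₁ * z⁻¹)⁻¹ * (h * y⁻¹) ∈ D ↔ h₁⁻¹ * h * (k z)⁻¹ ∈ Hs) := by
      intro z hz h₁ h₁s h hhs
      set s := z⁻¹ * y * (k z)⁻¹ with hs
      have hsT : s ∈ T := htr _
      rw [← hrep (h₁⁻¹ * h * (k z)⁻¹) (mul_mem (mul_mem (inv_mem (hHN (memHs.mp h₁s).1))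
        (hHN (memHs.mp hhs).1)) (inv_mem (E.nn_mem _))) s hsT]
      constructor
      · intro hd
        convert hDconj hd z⁻¹ using 1
        rw [hs]; group
      · intro hd
        convert hDconj hd z using 1
        rw [hs]; group
    have htotal : ∑ z ∈ T, (F z).card = (p - 1) * ((p - 2) * T.card) := by
      rw [← hHscard, ← smul_eq_mul, ← Finset.sum_const,
        Finset.sum_congr rfl fun h hh => (hK (h * y⁻¹) (hin h hh y hy)).symm]
      simp only [hF, Finset.card_filter, Finset.sum_product_right]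
      rw [Finset.sum_comm]
      refine Finset.sum_congr rfl fun h hh => ?_
      rw [← hDim, Finset.sum_image hΦinj, Finset.sum_product_right]
      refine Finset.sum_congr rfl fun z hz => Finset.sum_congr rfl fun h₁ hh₁ => ?_
      rw [hDim]
      exact (if_congr (hiff z hz h₁ hh₁ h hh) rfl rfl).symm
    set B := (p - 1) * (p - 2) + 1 with hB
    have hzero : ∀ z, k z ∉ Subgroup.centralizer (H : Set G) → (F z).card = 0 := by
      intro z hz
      rw [Finset.card_eq_zero, hF, Finset.filter_eq_empty_iff]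
      intro q hq hq'
      obtain ⟨h1, h2⟩ := Finset.mem_product.mp hq
      refine hz (E.le_centralizer ?_)
      have := mul_mem (inv_mem (memHs.mp hq').1)
        (mul_mem (inv_mem (memHs.mp h1).1) (memHs.mp h2).1)
      simpa [mul_assoc] using this
    have hbound : ∀ z, (F z).card ≤ (p - 1) * (p - 2) + if k z = 1 then 0 else 1 := by
      intro z
      by_cases hkH : k z ∈ H
      · have hsub : (F z).card ≤ ∑ h₁ ∈ Hs, (Hs.erase (h₁ * k z)).card := by
          simp only [hF, Finset.card_filter, Finset.sum_product]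
          refine Finset.sum_le_sum fun h₁ hh₁ => ?_
          rw [← Finset.card_filter]
          refine Finset.card_le_card fun h hh => ?_
          obtain ⟨a, b⟩ := Finset.mem_filter.mp hh
          refine Finset.mem_erase.mpr ⟨fun e => (memHs.mp b).2 ?_, a⟩
          rw [e]; group
        refine hsub.trans ?_
        have hterm : ∀ h₁ ∈ Hs, (Hs.erase (h₁ * k z)).card =
            (p - 2) + if h₁ * k z = 1 then 1 else 0 := by
          intro h₁ hh₁
          split_ifs with he
          · rw [Finset.erase_eq_of_notMem (fun hm => (memHs.mp hm).2 he), hHscard]; omega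
          · rw [Finset.card_erase_of_mem (memHs.mpr ⟨mul_mem (memHs.mp hh₁).1 hkH, he⟩), hHscard]
            omega
        rw [Finset.sum_congr rfl hterm, Finset.sum_add_distrib, Finset.sum_const, smul_eq_mul,
          hHscard]
        refine Nat.add_le_add_left ?_ _
        rw [← Finset.card_filter]
        split_ifs with hk1
        · rw [Nat.le_zero, Finset.card_eq_zero, Finset.filter_eq_empty_iff]
          intro h₁ hh₁ he
          rw [hk1, mul_one] at he
          exact (memHs.mp hh₁).2 he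
        · refine Finset.card_le_one.mpr fun a ha b hb => ?_
          exact mul_right_cancel ((Finset.mem_filter.mp ha).2.trans (Finset.mem_filter.mp hb).2.symm)
      · have h0 : (F z).card = 0 := by
          rw [Finset.card_eq_zero, hF, Finset.filter_eq_empty_iff]
          intro q hq hq'
          obtain ⟨h1, h2⟩ := Finset.mem_product.mp hq
          refine hkH ?_
          have := mul_mem (inv_mem (memHs.mp hq').1)
            (mul_mem (inv_mem (memHs.mp h1).1) (memHs.mp h2).1)
          simpa [mul_assoc] using this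
        simp [h0]
    set I := T.filter fun z => nn p H (z⁻¹ * y) ∉ Subgroup.centralizer (H : Set G) with hI
    have hlt : ∑ z ∈ T, (F z).card < (T \ I).card * B := by
      have h1 : ∑ z ∈ T, (F z).card = ∑ z ∈ T \ I, (F z).card := by
        refine (Finset.sum_subset Finset.sdiff_subset fun z hz hz' => hzero z ?_).symm
        by_contra hcon
        exact hz' (Finset.mem_sdiff.mpr ⟨hz, fun hm => (Finset.mem_filter.mp hm).2 hcon⟩)
      rw [h1, ← smul_eq_mul, ← Finset.sum_const]
      refine Finset.sum_lt_sum (fun z _ => (hbound z).trans (by split_ifs <;> omega)) ⟨1, ?_, ?_⟩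
      · refine Finset.mem_sdiff.mpr ⟨hT1, fun hm => (Finset.mem_filter.mp hm).2 ?_⟩
        rw [inv_one, one_mul, memT.mp hy]
        exact one_mem _
      · refine lt_of_le_of_lt (hbound 1) ?_
        rw [if_pos (show k 1 = 1 by simp [hk, memT.mp hy])]
        omega
    have hIle : I.card ≤ T.card := Finset.card_le_card (Finset.filter_subset _ _)
    have hlt' : (p - 1) * ((p - 2) * T.card) < (T.card - I.card) * B := by
      rw [← htotal]
      exact lt_of_lt_of_le hlt (le_of_eq (congrArg (· * B)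
        (Finset.card_sdiff_of_subset (Finset.filter_subset _ _))))
    have hB3 : 3 ≤ B := by
      have : 2 * 1 ≤ (p - 1) * (p - 2) := Nat.mul_le_mul (by omega) (by omega)
      omega
    have h2 : I.card * B < T.card := by
      have h5 : (T.card - I.card) * B + I.card * B = T.card * B := by
        rw [← add_mul, Nat.sub_add_cancel hIle]
      have h6 : T.card * B = (p - 1) * ((p - 2) * T.card) + T.card := by
        rw [hB]; ring
      omega
    calc 3 * I.card ≤ B * I.card := Nat.mul_le_mul_right _ hB3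
      _ < T.card := by rw [mul_comm]; exact h2
  -- the cocycle
  refine E.coherent_of_tr (fun x t ht => ?_) g g'
  have hall : ∀ u ∈ T, ∀ y ∈ T, nn p H (u⁻¹ * y) ∈ Subgroup.centralizer (H : Set G) := by
    intro u hu y hy
    set y' := u⁻¹ * y * (nn p H (u⁻¹ * y))⁻¹ with hy'
    set I₁ := T.filter fun z => nn p H (z⁻¹ * y) ∉ Subgroup.centralizer (H : Set G)
    set I₂ := T.filter fun z => nn p H (z⁻¹ * u) ∉ Subgroup.centralizer (H : Set G)
    set I₀ := T.filter fun z => nn p H (z⁻¹ * y') ∉ Subgroup.centralizer (H : Set G)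
    set J := I₀.image fun z => u * z * (nn p H (u * z))⁻¹ with hJ
    have hlt : (I₁ ∪ I₂ ∪ J).card < T.card := by
      have : 3 * I₁.card < T.card := hfew y hy
      have : 3 * I₂.card < T.card := hfew u hu
      have : 3 * I₀.card < T.card := hfew y' (htr _)
      have := Finset.card_union_le (I₁ ∪ I₂) J
      have := Finset.card_union_le I₁ I₂
      have : J.card ≤ I₀.card := Finset.card_image_le
      omega
    obtain ⟨d, hdT, hd⟩ := Finset.exists_mem_notMem_of_card_lt_card hlt
    simp only [Finset.mem_union, not_or] at hd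
    have c1 : nn p H (d⁻¹ * y) ∈ Subgroup.centralizer (H : Set G) := by
      by_contra h; exact hd.1.1 (Finset.mem_filter.mpr ⟨hdT, h⟩)
    have c2 : nn p H (d⁻¹ * u) ∈ Subgroup.centralizer (H : Set G) := by
      by_contra h; exact hd.1.2 (Finset.mem_filter.mpr ⟨hdT, h⟩)
    set m₂ := nn p H (u⁻¹ * d) with hm₂
    set d' := u⁻¹ * d * m₂⁻¹ with hd'
    have c0 : nn p H (d'⁻¹ * y') ∈ Subgroup.centralizer (H : Set G) := by
      by_contra h
      refine hd.2 (Finset.mem_image.mpr ⟨d', Finset.mem_filter.mpr ⟨htr _, h⟩, ?_⟩)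
      have h1 : nn p H (u * d') = m₂⁻¹ := by
        rw [hd', show u * (u⁻¹ * d * m₂⁻¹) = d * m₂⁻¹ by group,
          E.nn_mul_right d (inv_mem (E.nn_mem _)), memT.mp hdT, one_mul]
      rw [h1, hd']; group
    have hm₂C : m₂ ∈ Subgroup.centralizer (H : Set G) := by
      rw [hm₂, show u⁻¹ * d = (d⁻¹ * u)⁻¹ by group, E.nn_inv]
      exact inv_mem c2
    have h3 : nn p H (d'⁻¹ * y') = m₂ * nn p H (d⁻¹ * y) * (nn p H (u⁻¹ * y))⁻¹ := by
      rw [show d'⁻¹ * y' = m₂ * (d⁻¹ * y) * (nn p H (u⁻¹ * y))⁻¹ by rw [hd', hy']; group,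
        E.nn_mul_right _ (inv_mem (E.nn_mem _)), E.nn_mul_left _ (E.nn_mem _)]
    rw [h3] at c0
    have h4 := mul_mem (inv_mem c0) (mul_mem hm₂C c1)
    simpa [mul_assoc] using h4
  set w := x⁻¹ * (nn p H x⁻¹)⁻¹ with hw
  have hx : x = (nn p H x⁻¹)⁻¹ * w⁻¹ := by rw [hw]; group
  have hNx : (nn p H x⁻¹)⁻¹ ∈ Subgroup.normalizer (H : Set G) := inv_mem (E.nn_mem _)
  have e1 : nn p H (x * t) = (nn p H x⁻¹)⁻¹ * nn p H (w⁻¹ * t) := by
    rw [show x * t = (nn p H x⁻¹)⁻¹ * (w⁻¹ * t) by rw [hw]; group, E.nn_mul_left _ hNx]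
  rw [e1, show nn p H x = (nn p H x⁻¹)⁻¹ by rw [E.nn_inv, inv_inv]]
  simpa [mul_assoc] using inv_mem (hall w (htr _) t (memT.mpr ht))

/-- One normalizer orbit: `nn` is a homomorphism modulo the centralizer of `H`. -/
theorem coherent (hloc : IsLocalControl p H)
    (horb : ∀ a ∈ H, a ≠ 1 → ∀ c ∈ H, c ≠ 1 →
      ∃ m ∈ Subgroup.normalizer (H : Set G), m * a * m⁻¹ = c)
    (hbot : H ≠ ⊥) (h2 : Nat.card H ≠ 2) (g g' : G) :
    (nn p H (g * g'))⁻¹ * (nn p H g * nn p H g') ∈ Subgroup.centralizer (H : Set G) := by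
  by_cases hcyc : IsCyclic H
  · obtain ⟨⟨a, haH⟩, hgen⟩ := hcyc.exists_generator
    have hcard : Nat.card H = orderOf a := by
      rw [← orderOf_eq_card_of_forall_mem_zpowers hgen, Subgroup.orderOf_mk]
    have ha1 : a ≠ 1 := fun h => hbot (by
      rw [← Subgroup.card_eq_one, hcard, h, orderOf_one])
    have hne : Nontrivial H := ⟨⟨⟨a, haH⟩, 1, fun h => ha1 (congrArg Subtype.val h)⟩⟩
    obtain ⟨n, hn, hcard'⟩ := E.pgroup.nontrivial_iff_card.mp hne
    obtain ⟨b, hb⟩ := exists_prime_orderOf_dvd_card' (G := H) p (by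
      rw [hcard']; exact dvd_pow_self p hn.ne')
    obtain ⟨m, -, hm⟩ := horb b b.2 (fun h => hp.out.ne_one (by
      rw [← hb, show b = 1 from Subtype.ext h, orderOf_one])) a haH ha1
    have hp' : Nat.card H = p := by
      rw [hcard, ← hm]
      exact (orderOf_injective (MulAut.conj m).toMonoidHom (MulAut.conj m).injective (b : G)).trans
        ((Subgroup.orderOf_coe b).trans hb)
    refine E.coherent_of_card_eq hp' ?_ horb g g'
    have := hp.out.two_le
    omega
  · exact E.coherent_of_not_isCyclic hloc hcyc g g'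

end ECHyp

end Cfsg.Agent.Lib.ExtremelyClosed
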