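import Cfsg.Agent.Lib.ExtremelyClosed.Local
import Cfsg.Agent.Lib.Glauberman.Solvable
import Cfsg.Agent.Lib.Glauberman.Conj
import Cfsg.Agent.Lib.Glauberman.CoprimeDegree
import Cfsg.Agent.Lib.Characters.CyclicGlauberman
import Cfsg.Agent.Lib.Characters.Kernel
import Cfsg.Agent.Lib.Blocks.Central
import Cfsg.Agent.Lib.Blocks.PrincipalRestrict
import Cfsg.Agent.S0867

/-!
# Extremely closed abelian `p`-subgroups, `p` odd: no fixed points in the commutator

If `G` is the product of the extremely closed abelian `p`-subgroup `H` (`p` odd) and a normal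
`p'`-subgroup `L` with `⁅L, H⁆ = L`, then no nontrivial element of `L` centralizes `H`.
-/

set_option autoImplicit false
set_option linter.unusedSectionVars false
set_option linter.style.haveILetI false

namespace Cfsg.Agent.Lib.ExtremelyClosed

open Cfsg Cfsg.Agent.Lib.Blocks Cfsg.Agent.Lib.Characters Cfsg.Agent.Lib.Glauberman
open Pointwise
open scoped commutatorElement ComplexConjugate

universe u

variable {G : Type u} [Group G] [Fintype G]

/-- An irreducible character of a coprimely normalized subgroup that is invariant under an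
operator group acting without fixed points on the commutator is trivial on the commutator. -/
theorem invariant_trivial_on_commutator {A K : Subgroup G} [Fintype K] [Group.IsSolvable A]
    (hAK : A ≤ Subgroup.normalizer (K : Set G)) (hcop : (Nat.card A).Coprime (Nat.card K))
    (hfix : ⁅K, A⁆ ⊓ Subgroup.centralizer (A : Set G) = ⊥) {β : IrrCharacter K}
    (hβ : ∀ a ∈ A, ∀ k k' : K, (k' : G) = a * k * a⁻¹ → (β : K → ℂ) k' = (β : K → ℂ) k)
    {k : K} (hk : (k : G) ∈ ⁅K, A⁆) : (β : K → ℂ) k = (β : K → ℂ) 1 := by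
  classical
  have hnorm : ∀ s ∈ A, ∀ g ∈ K, s * g * s⁻¹ ∈ K := fun s hs g hg =>
    (Subgroup.mem_normalizer_iff.mp (hAK hs) g).mp hg
  set φ := Lib.Glauberman.conjHom K A hnorm with hφ
  set K₁ := (⁅K, A⁆ : Subgroup G).subgroupOf K with hK₁
  haveI hn : K₁.Normal := Subgroup.normal_subgroupOf_of_le_normalizer
    (Subgroup.normalizer_commutator_ge_left K A)
  let e : fixedSub φ →* K ⧸ K₁ := (QuotientGroup.mk' K₁).comp (fixedSub φ).subtype
  have hinj : Function.Injective e := by
    rw [injective_iff_map_eq_one]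
    intro x hx
    have h1 : ((x : K) : G) ∈ ⁅K, A⁆ := (QuotientGroup.eq_one_iff (x : K)).mp hx
    have h2 : ((x : K) : G) ∈ Subgroup.centralizer (A : Set G) := by
      rw [Subgroup.mem_centralizer_iff]
      intro a ha
      exact mul_inv_eq_iff_eq_mul.mp ((mem_fixedSub_conjHom hnorm).mp x.2 a ha)
    have h3 : ((x : K) : G) ∈ ⁅K, A⁆ ⊓ Subgroup.centralizer (A : Set G) := ⟨h1, h2⟩
    rw [hfix, Subgroup.mem_bot] at h3
    exact Subtype.ext (Subtype.ext h3)
  have hsurj : Function.Surjective e := by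
    intro x
    obtain ⟨x, rfl⟩ := QuotientGroup.mk'_surjective K₁ x
    have hx : (x : G) ∈ ⁅K, A⁆ ⊔ (K ⊓ Subgroup.centralizer (A : Set G)) := by
      rw [Lib.Coprime.commutator_sup_centralizer_eq hAK hcop (Or.inl ‹_›)]
      exact x.2
    obtain ⟨y, hy, c, hc, hxy⟩ := Lib.Coprime.exists_mul_of_mem_sup
      (inf_le_left.trans (Subgroup.normalizer_commutator_ge_left K A)) hx
    refine ⟨⟨⟨c, hc.1⟩, (mem_fixedSub_conjHom hnorm).mpr fun a ha =>
      mul_inv_eq_iff_eq_mul.mpr (Subgroup.mem_centralizer_iff.mp hc.2 a ha)⟩, ?_⟩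
    show QuotientGroup.mk' K₁ (⟨c, hc.1⟩ : K) = QuotientGroup.mk' K₁ x
    refine (QuotientGroup.eq.mpr ?_)
    show ((⟨c, hc.1⟩ : K)⁻¹ * x : K).1 ∈ ⁅K, A⁆
    rw [Subgroup.coe_mul, Subgroup.coe_inv, hxy, ← mul_assoc]
    exact (Subgroup.mem_normalizer_iff''.mp (Subgroup.normalizer_commutator_ge_left K A hc.1) y).mp hy
  have hcard : Nat.card (InvIrr φ) = Nat.card (IrrCharacter (K ⧸ K₁)) := by
    rw [Nat.card_congr (nonempty_invIrr_equiv φ hcop).some]
    exact Nat.card_congr (irrEquiv (MulEquiv.ofBijective e ⟨hinj, hsurj⟩))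
  let infl : IrrCharacter (K ⧸ K₁) → InvIrr φ := fun η =>
    ⟨⟨(η : K ⧸ K₁ → ℂ) ∘ QuotientGroup.mk' K₁,
      IsIrrCharacter.comp_surjective η.2 _ (QuotientGroup.mk'_surjective K₁)⟩, fun a k => by
        show (η : K ⧸ K₁ → ℂ) (QuotientGroup.mk' K₁ (φ a k)) = _
        refine congrArg _ (QuotientGroup.eq.mpr ?_)
        show (((φ a k)⁻¹ * k : K) : G) ∈ ⁅K, A⁆
        rw [Subgroup.coe_mul, Subgroup.coe_inv, hφ, conjHom_apply]
        have h1 : ⁅(a : G), ((k : K) : G)⁻¹⁆ ∈ ⁅K, A⁆ := by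
          rw [Subgroup.commutator_comm]
          exact Subgroup.commutator_mem_commutator a.2 (inv_mem k.2)
        simpa [commutatorElement_def, mul_assoc] using h1⟩
  have hinfl : Function.Injective infl := by
    intro η η' h
    refine Subtype.ext (funext fun x => ?_)
    obtain ⟨x, rfl⟩ := QuotientGroup.mk'_surjective K₁ x
    exact congrFun (congrArg (fun z : InvIrr φ => ((z.1 : IrrCharacter K) : K → ℂ)) h) x
  haveI : Finite (InvIrr φ) := Subtype.finite
  haveI : Finite (IrrCharacter (K ⧸ K₁)) := Finite.of_injective _ hinfl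
  have hbij := (Nat.bijective_iff_injective_and_card infl).mpr ⟨hinfl, hcard.symm⟩
  obtain ⟨η, hη⟩ := hbij.2 ⟨β, fun a k => hβ a a.2 k (φ a k) rfl⟩
  have hval : ∀ x : K, (η : K ⧸ K₁ → ℂ) (QuotientGroup.mk' K₁ x) = (β : K → ℂ) x := fun x =>
    congrFun (congrArg (fun z : InvIrr φ => ((z.1 : IrrCharacter K) : K → ℂ)) hη) x
  rw [← hval, ← hval 1]
  refine congrArg _ ?_
  rw [map_one]
  exact (QuotientGroup.eq_one_iff k).mpr (show k ∈ K₁ from hk)

/-- If all invariant irreducible characters are trivial there are no nontrivial fixed points. -/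
theorem inf_centralizer_eq_bot_of_invariant_trivial {A K : Subgroup G} [Fintype K]
    [Group.IsSolvable A] (hAK : A ≤ Subgroup.normalizer (K : Set G))
    (hcop : (Nat.card A).Coprime (Nat.card K))
    (h : ∀ β : IrrCharacter K,
      (∀ a ∈ A, ∀ k k' : K, (k' : G) = a * k * a⁻¹ → (β : K → ℂ) k' = (β : K → ℂ) k) →
        (β : K → ℂ) = fun _ => 1) :
    K ⊓ Subgroup.centralizer (A : Set G) = ⊥ := by
  classical
  have hnorm : ∀ s ∈ A, ∀ g ∈ K, s * g * s⁻¹ ∈ K := fun s hs g hg =>
    (Subgroup.mem_normalizer_iff.mp (hAK hs) g).mp hg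
  set φ := Lib.Glauberman.conjHom K A hnorm
  haveI : Subsingleton (InvIrr φ) := ⟨fun x y => Subtype.ext (Subtype.ext (by
    rw [h x.1 ((isInv_conjHom_iff hnorm _).mp x.2), h y.1 ((isInv_conjHom_iff hnorm _).mp y.2)]))⟩
  have hle : Nat.card (InvIrr φ) ≤ 1 := Finite.card_le_one_iff_subsingleton.mpr ‹_›
  rw [card_invIrr_eq_card_classes_fixed φ hcop] at hle
  haveI : Finite (ConjClasses (fixedSub φ)) := Finite.of_surjective _ ConjClasses.mk_surjective
  haveI := Finite.card_le_one_iff_subsingleton.mp hle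
  rw [eq_bot_iff]
  rintro x ⟨hx, hc⟩
  rw [Subgroup.mem_bot]
  let y : fixedSub φ := ⟨⟨x, hx⟩, (mem_fixedSub_conjHom hnorm).mpr fun a ha =>
    mul_inv_eq_iff_eq_mul.mpr (Subgroup.mem_centralizer_iff.mp hc a ha)⟩
  have h1 : ConjClasses.mk y = ConjClasses.mk 1 := Subsingleton.elim _ _
  rw [ConjClasses.mk_eq_mk_iff_isConj, isConj_one_left] at h1
  exact congrArg (fun z : fixedSub φ => ((z : K) : G)) h1

variable {p : ℕ} [hp : Fact p.Prime] {H : Subgroup G}

namespace ECHyp

variable (E : ECHyp p H)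
include E

/-- In `G = H L` the value of an invariant extension at a moving element of `H` is the degree. -/
theorem apply_eq_degree (hp2 : p ≠ 2) {L : Subgroup G} [Fintype L] [hL : L.Normal]
    (hcop : (Nat.card L).Coprime p) (htop : H ⊔ L = ⊤) {a : G} (ha : a ∈ H)
    (hfix : ⁅L ⊓ Subgroup.centralizer ({a} : Set G), H⁆ ⊓ Subgroup.centralizer (H : Set G) = ⊥)
    {θ : IrrCharacter L} {χ : IrrCharacter G} (hres : ∀ l : L, (χ : G → ℂ) l = (θ : L → ℂ) l)
    (hdet : (Cfsg.detOrder (θ : L → ℂ)).Coprime p)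
    (hdetχ : (Cfsg.detOrder (χ : G → ℂ)).Coprime p) :
    (χ : G → ℂ) a = (χ : G → ℂ) 1 := by
  classical
  set S := Subgroup.zpowers a with hS
  set D := L ⊓ Subgroup.centralizer ({a} : Set G) with hD
  obtain ⟨k, hk⟩ := Lib.LocalEven2.orderOf_of_mem_pgroup E.pgroup ha
  set Γ := L ⊔ S with hΓ
  haveI := Fintype.ofFinite Γ
  have hLΓ : L ≤ Γ := le_sup_left
  have haΓ : a ∈ Γ := Subgroup.mem_sup_right (Subgroup.mem_zpowers a)
  set LΓ := L.subgroupOf Γ with hLΓdef
  haveI : LΓ.Normal := hL.subgroupOf Γ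
  haveI := Fintype.ofFinite LΓ
  let eL : LΓ ≃* L := Subgroup.subgroupOfEquivOfLe hLΓ
  let s₀ : Γ := ⟨a, haΓ⟩
  set SΓ := Subgroup.zpowers s₀ with hSΓ
  set DΓ := D.subgroupOf Γ with hDΓ
  haveI := Fintype.ofFinite DΓ
  let θΓ : IrrCharacter LΓ :=
    ⟨(θ : L → ℂ) ∘ eL, IsIrrCharacter.comp_surjective θ.2 eL.toMonoidHom eL.surjective⟩
  have hres' : ∀ g : LΓ, ((χ : G → ℂ) ∘ Γ.subtype) g = (θΓ : LΓ → ℂ) g := fun g => hres (eL g)
  have hχΓc : IsCharacter Γ ((χ : G → ℂ) ∘ Γ.subtype) :=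
    IsCharacter.comp (irr_isCharacter χ) Γ.subtype
  have hχΓ : IsIrrCharacter Γ ((χ : G → ℂ) ∘ Γ.subtype) :=
    isIrr_of_restrict (N := LΓ) hχΓc (by rw [funext hres']; exact θΓ.2)
  have hcard : Nat.card SΓ = p ^ k := by rw [hSΓ, Nat.card_zpowers, Subgroup.orderOf_mk, hk]
  have hdetdvd : ∀ {K K' : Type u} [Group K] [Group K'] [Finite K] [Finite K'] (f : K →* K')
      {ψ : K' → ℂ}, IsCharacter K' ψ → Cfsg.detOrder (ψ ∘ f) ∣ Cfsg.detOrder ψ := by
    intro K K' _ _ _ _ f ψ hψ
    refine orderOf_dvd_of_pow_eq_one ?_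
    rw [detChar_comp f hψ]
    funext x
    have := congrFun (pow_orderOf_eq_one (detChar ψ)) (f x)
    simpa [Cfsg.detOrder] using this
  obtain ⟨hsame, β, ε, hε, hβ⟩ := exists_signed_constituent (G := LΓ) (S := SΓ) (C := DΓ)
    (by
      rw [hcard, Nat.card_congr eL.toEquiv]
      exact hcop.pow_right k)
    (by
      rw [eq_top_iff]
      rintro ⟨x, hx⟩ -
      rw [hΓ] at hx
      obtain ⟨l, hl, s, hs, rfl⟩ := Lib.Coprime.exists_mul_of_mem_sup
        (Subgroup.normalizer_eq_top L ▸ le_top) hx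
      obtain ⟨j, rfl⟩ := Subgroup.mem_zpowers_iff.mp hs
      rw [show (⟨l * a ^ j, hx⟩ : Γ) = ⟨l, hLΓ hl⟩ * s₀ ^ j from rfl]
      exact Subgroup.mul_mem_sup hl (zpow_mem (Subgroup.mem_zpowers s₀) j))
    (by
      intro x
      rw [hDΓ, Subgroup.mem_subgroupOf, hD, Subgroup.mem_inf, Subgroup.mem_centralizer_singleton_iff]
      refine and_congr Iff.rfl ⟨fun h t ht => ?_, fun h => ?_⟩
      · obtain ⟨j, rfl⟩ := Subgroup.mem_zpowers_iff.mp ht
        have hc : Commute s₀ x := Subtype.ext h.symm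
        rw [(hc.zpow_left j).eq, mul_inv_cancel_right]
      · have h1 := congrArg Subtype.val (h s₀ (Subgroup.mem_zpowers s₀))
        exact (mul_inv_eq_iff_eq_mul.mp h1).symm)
    (χ := θΓ) (by
      intro x g
      rw [← hres', ← hres']
      exact IsCharacter.conj_apply hχΓc _ _)
    (by
      rw [hcard]
      exact (hdet.coprime_dvd_left (hdetdvd eL.toMonoidHom (irr_isCharacter θ))).pow_right k)
    hχΓ hres'
    (by
      rw [hcard]
      exact (hdetχ.coprime_dvd_left (hdetdvd Γ.subtype (irr_isCharacter χ))).pow_right k)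
    (s₀ := s₀) rfl
  -- `a ^ 2` generates `⟨a⟩`
  have hcop2 : Nat.Coprime 2 (orderOf a) := by
    rw [hk]
    exact ((Nat.coprime_primes Nat.prime_two hp.out).mpr fun h => hp2 h.symm).pow_right k
  have hgen : Subgroup.zpowers (s₀ ^ 2) = SΓ := by
    refine Subgroup.eq_of_le_of_card_ge (Subgroup.zpowers_le.mpr
      (pow_mem (Subgroup.mem_zpowers s₀) 2)) ?_
    rw [hSΓ, Nat.card_zpowers, Nat.card_zpowers, Nat.Coprime.orderOf_pow]
    rw [Subgroup.orderOf_mk]
    exact hcop2.symm
  -- invariance of the constituent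
  have hf : ∀ c : D, (χ : G → ℂ) ((c : G) * a) =
      (ε : ℂ) * (β : DΓ → ℂ) ⟨⟨c, hLΓ c.2.1⟩, c.2⟩ := fun c => hβ ⟨⟨c, hLΓ c.2.1⟩, c.2⟩
  haveI := Fintype.ofFinite D
  let eD : DΓ ≃* D := Subgroup.subgroupOfEquivOfLe (inf_le_left.trans hLΓ)
  let βD : IrrCharacter D :=
    ⟨(β : DΓ → ℂ) ∘ eD.symm, IsIrrCharacter.comp_surjective β.2 eD.symm.toMonoidHom eD.symm.surjective⟩
  have hε0 : (ε : ℂ) ≠ 0 := by rcases hε with rfl | rfl <;> norm_num
  haveI : Group.IsSolvable H :=
    isSolvable_of_comm fun a b => Subtype.ext (E.mul_comm_mem a.2 b.2)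
  have hHD : H ≤ Subgroup.normalizer (D : Set G) := fun h hh =>
    mem_normalizer_of_conj_le _ fun y hy => ⟨hL.conj_mem y hy.1 h, by
      have hha : Commute h a := E.mul_comm_mem hh ha
      have hya : Commute y a := Subgroup.mem_centralizer_singleton_iff.mp hy.2
      exact Subgroup.mem_centralizer_singleton_iff.mpr ((hha.mul_left hya).mul_left hha.inv_left)⟩
  have hcopH : (Nat.card H).Coprime (Nat.card L) := by
    obtain ⟨n, hn⟩ := IsPGroup.iff_card.mp E.pgroup
    rw [hn]
    exact hcop.symm.pow_left n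
  have hconst : ∀ c : D, (c : G) ∈ ⁅D, H⁆ → (χ : G → ℂ) ((c : G) * a) = (χ : G → ℂ) a := by
    intro c hc
    have h1 := invariant_trivial_on_commutator (β := βD) hHD
      (hcopH.coprime_dvd_right (Subgroup.card_dvd_of_le inf_le_left)) hfix
      (fun h hh x x' hx => mul_left_cancel₀ hε0 (by
        show (ε : ℂ) * (β : DΓ → ℂ) (eD.symm x') = (ε : ℂ) * (β : DΓ → ℂ) (eD.symm x)
        have e : ∀ y : D, eD.symm y = ⟨⟨y, hLΓ y.2.1⟩, y.2⟩ := fun y => rfl
        rw [e, e, ← hf, ← hf, hx,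
          show h * (x : G) * h⁻¹ * a = h * ((x : G) * a) * h⁻¹ by
            rw [mul_assoc _ h⁻¹, E.mul_comm_mem (inv_mem hh) ha]; group,
          IsCharacter.conj_apply (irr_isCharacter χ)])) hc
    have h2 : (χ : G → ℂ) ((1 : G) * a) = (ε : ℂ) * (β : DΓ → ℂ) 1 := hf 1
    have h3 : (χ : G → ℂ) a = (ε : ℂ) * (β : DΓ → ℂ) 1 := by rw [← h2, one_mul]
    rw [hf c, h3]
    congr 1
  -- every term of the class sum equals the value at `a`
  have hterm : ∀ g : G, (χ : G → ℂ) (a * (g * a * g⁻¹)) = (χ : G → ℂ) a := by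
    intro g
    set t := tr p H g with ht
    set n := nn p H g with hn
    have hna : n * a * n⁻¹ = a := by
      obtain ⟨l, hl, h, hh, hlh⟩ := Lib.Coprime.exists_mul_of_mem_sup
        (N := L) (H := H) (Subgroup.normalizer_eq_top L ▸ le_top)
        (show n ∈ L ⊔ H by rw [sup_comm, htop]; trivial)
      have h1 : n * a * n⁻¹ * a⁻¹ = l * (a * l⁻¹ * a⁻¹) := by
        rw [hlh, show l * h * a * (l * h)⁻¹ * a⁻¹ = l * (h * a) * h⁻¹ * l⁻¹ * a⁻¹ by group,
          E.mul_comm_mem hh ha]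
        group
      have h2 : n * a * n⁻¹ * a⁻¹ = 1 := Lib.Coprime.eq_one_of_mem_of_mem (N := H) (H := L) hcopH
        (mul_mem (E.nn_conj_mem g ha) (inv_mem ha))
        (h1 ▸ mul_mem hl (hL.conj_mem _ (inv_mem hl) a))
      exact mul_inv_eq_one.mp h2
    have htg : g * a * g⁻¹ = t * a * t⁻¹ := by
      conv_rhs => rw [← hna]
      conv_lhs => rw [← tr_mul_nn (p := p) (H := H) g]
      rw [← hn, ← ht]; group
    have ho : a⁻¹ * t * a * t⁻¹ ∈ pairCore p H g := by
      have := mul_mem (conj_mem (E.normalize_core g (inv_mem ha)) (E.tr_mem g))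
        (inv_mem (E.tr_mem g))
      simpa [mul_assoc] using this
    obtain ⟨c, hc, hcomm, w, -, hw⟩ := exists_conj_mul_fixed (y := a ^ 2)
      (E.normalize_core g (pow_mem ha 2))
      ((E.coprime_card g).symm.coprime_dvd_left (Subgroup.orderOf_dvd_natCard H (pow_mem ha 2))) ho
    rw [htg, show a * (t * a * t⁻¹) = a ^ 2 * (a⁻¹ * t * a * t⁻¹) by rw [pow_two]; group, ← hw,
      IsCharacter.conj_apply (irr_isCharacter χ)]
    have hca : Commute a c := by
      obtain ⟨j, hj⟩ := Subgroup.mem_zpowers_iff.mp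
        (show s₀ ∈ Subgroup.zpowers (s₀ ^ 2) from hgen ▸ Subgroup.mem_zpowers s₀)
      have hj' : (a ^ 2) ^ j = a := congrArg Subtype.val hj
      rw [← hj']
      exact hcomm.zpow_left j
    have hle : pairCore p H g ≤ L := by
      intro x hx
      obtain ⟨l, hl, h, hh, hlh⟩ := Lib.Coprime.exists_mul_of_mem_sup
        (N := L) (H := H) (Subgroup.normalizer_eq_top L ▸ le_top)
        (show x ∈ L ⊔ H by rw [sup_comm, htop]; trivial)
      exact mem_of_mul_pgroup hcop hl (Subgroup.normalizer_eq_top L ▸ Subgroup.mem_top h)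
        (Lib.LocalEven2.orderOf_of_mem_pgroup E.pgroup hh) hlh
        (not_dvd_orderOf (pairCore_coprime g) hx)
    have hcD : c ∈ D := ⟨hle hc, Subgroup.mem_centralizer_singleton_iff.mpr hca.eq.symm⟩
    have hcomm' : c ∈ ⁅D, H⁆ := by
      set U := pairCore p H g ⊓ D with hU
      have hHU : H ≤ Subgroup.normalizer (U : Set G) := fun h hh =>
        mem_normalizer_of_conj_le _ fun y hy =>
          ⟨conj_mem (E.normalize_core g hh) hy.1, conj_mem (hHD hh) hy.2⟩
      have heq := Lib.Coprime.commutator_sup_centralizer_eq hHU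
        ((E.coprime_card g).symm.coprime_dvd_right (Subgroup.card_dvd_of_le inf_le_left))
        (Or.inl ‹_›)
      have hbot : U ⊓ Subgroup.centralizer (H : Set G) = ⊥ := by
        rw [eq_bot_iff]
        rintro x ⟨hx, hxc⟩
        rw [Subgroup.mem_bot]
        refine E.eq_one_of_mem_normalizer hx.1 (mem_normalizer_of_conj_le _ fun y hy => ?_)
        rw [← Subgroup.mem_centralizer_iff.mp hxc y hy]
        simpa using hy
      rw [hbot, sup_bot_eq] at heq
      have hcU : c ∈ ⁅U, H⁆ := by rw [heq]; exact ⟨hc, hcD⟩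
      exact Subgroup.commutator_mono inf_le_right le_rfl hcU
    rw [← hconst ⟨c, hcD⟩ hcomm']
    have h3 := hsame ⟨⟨c, hLΓ hcD.1⟩, hcD⟩ (s₀ ^ 2) hgen
    rw [hcomm.eq]
    exact h3
  have hsum := sum_char_mul_conj χ.2 a a
  rw [Finset.sum_congr rfl fun g _ => hterm g, Finset.sum_const, Finset.card_univ,
    ← Nat.card_eq_fintype_card, nsmul_eq_mul, mul_assoc, mul_div_assoc] at hsum
  have h4 := mul_left_cancel₀ (Nat.cast_ne_zero.mpr Nat.card_pos.ne') hsum
  have h1 : (χ : G → ℂ) 1 ≠ 0 := IsIrrCharacter.apply_one_ne_zero χ.2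
  have hne : (χ : G → ℂ) a ≠ 0 := by
    have h2 : (χ : G → ℂ) ((1 : G) * a) = (ε : ℂ) * (β : DΓ → ℂ) 1 := hf 1
    rw [one_mul] at h2
    rw [h2]
    exact mul_ne_zero hε0 (IsIrrCharacter.apply_one_ne_zero β.2)
  rw [eq_div_iff h1] at h4
  exact mul_left_cancel₀ hne h4.symm

end ECHyp

theorem fixed_eq_bot_aux (n : ℕ) : ∀ {G : Type u} [Group G] [Fintype G] {p : ℕ} [Fact p.Prime]
    {H L : Subgroup G}, Nat.card G = n → p ≠ 2 → ECHyp p H → L.Normal → (Nat.card L).Coprime p →
      H ⊔ L = ⊤ → ⁅L, H⁆ = L → L ⊓ Subgroup.centralizer (H : Set G) = ⊥ := by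
  induction n using Nat.strongRecOn with
  | ind n ih =>
  intro G _ _ p _ H L hn hp2 E hL hcop htop hcomm
  classical
  haveI := hL
  haveI := Fintype.ofFinite L
  haveI : Group.IsSolvable H :=
    isSolvable_of_comm fun a b => Subtype.ext (E.mul_comm_mem a.2 b.2)
  have hHL : H ≤ Subgroup.normalizer (L : Set G) := Subgroup.normalizer_eq_top L ▸ le_top
  have hcopH : (Nat.card H).Coprime (Nat.card L) := by
    obtain ⟨m, hm⟩ := IsPGroup.iff_card.mp E.pgroup
    rw [hm]
    exact hcop.symm.pow_left m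
  -- fixed points in smaller commutators
  have hfix : ∀ a ∈ H, ¬ L ≤ Subgroup.centralizer ({a} : Set G) →
      ⁅L ⊓ Subgroup.centralizer ({a} : Set G), H⁆ ⊓ Subgroup.centralizer (H : Set G) = ⊥ := by
    intro a ha hna
    set D := L ⊓ Subgroup.centralizer ({a} : Set G) with hD
    set K := ⁅D, H⁆ with hK
    have hHD : H ≤ Subgroup.normalizer (D : Set G) := fun h hh =>
      mem_normalizer_of_conj_le _ fun y hy => ⟨hL.conj_mem y hy.1 h, by
        have hha : Commute h a := E.mul_comm_mem hh ha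
        have hya : Commute y a := Subgroup.mem_centralizer_singleton_iff.mp hy.2
        exact Subgroup.mem_centralizer_singleton_iff.mpr
          ((hha.mul_left hya).mul_left hha.inv_left)⟩
    have hKD : K ≤ D := Lib.Coprime.commutator_le_of_le_normalizer hHD
    have hHK : H ≤ Subgroup.normalizer (K : Set G) := Subgroup.normalizer_commutator_ge_right D H
    have hcopD : (Nat.card H).Coprime (Nat.card D) :=
      hcopH.coprime_dvd_right (Subgroup.card_dvd_of_le inf_le_left)
    set G₁ := H ⊔ K with hG₁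
    have hne : G₁ ≠ ⊤ := by
      intro h
      refine hna fun l hl => ?_
      obtain ⟨k, hk, x, hx, rfl⟩ := Lib.Coprime.exists_mul_of_mem_sup (N := K) (H := H) hHK
        (show l ∈ K ⊔ H by rw [sup_comm, ← hG₁, h]; trivial)
      have hx1 : x = 1 := Lib.Coprime.eq_one_of_mem_of_mem hcopH hx
        ((Subgroup.mul_mem_cancel_left L (hKD hk).1).mp hl)
      subst hx1
      rw [mul_one]
      exact (hKD hk).2
    have hHG : H ≤ G₁ := le_sup_left
    have hKG : K ≤ G₁ := le_sup_right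
    have hlt : Nat.card G₁ < n := by
      rw [← hn]
      exact lt_of_le_of_ne (Subgroup.card_le_card_group G₁)
        fun h => hne (Subgroup.eq_top_of_card_eq G₁ h)
    haveI := Fintype.ofFinite G₁
    have hres := ih _ hlt (G := G₁) (H := H.subgroupOf G₁) (L := K.subgroupOf G₁) rfl hp2
      (E.subgroupOf G₁ hHG)
      (Subgroup.normal_subgroupOf_of_le_normalizer (sup_le hHK Subgroup.le_normalizer))
      (by
        rw [Nat.card_congr (Subgroup.subgroupOfEquivOfLe hKG).toEquiv]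
        exact hcop.coprime_dvd_left (Subgroup.card_dvd_of_le (hKD.trans inf_le_left)))
      (by
        refine Subgroup.map_injective G₁.subtype_injective ?_
        rw [Subgroup.map_sup, Subgroup.map_subgroupOf_eq_of_le hHG,
          Subgroup.map_subgroupOf_eq_of_le hKG, ← MonoidHom.range_eq_map, Subgroup.range_subtype])
      (by
        refine Subgroup.map_injective G₁.subtype_injective ?_
        rw [Subgroup.map_commutator, Subgroup.map_subgroupOf_eq_of_le hHG,
          Subgroup.map_subgroupOf_eq_of_le hKG, hK]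
        exact Lib.Coprime.commutator_commutator_eq hHD hcopD (Or.inl inferInstance))
    rw [eq_bot_iff]
    rintro x ⟨hx, hxc⟩
    have h1 : (⟨x, hKG hx⟩ : G₁) ∈ K.subgroupOf G₁ ⊓
        Subgroup.centralizer (H.subgroupOf G₁ : Set G₁) :=
      ⟨hx, Subgroup.mem_centralizer_iff.mpr fun y hy =>
        Subtype.ext (Subgroup.mem_centralizer_iff.mp hxc y hy)⟩
    rw [hres, Subgroup.mem_bot] at h1
    exact congrArg Subtype.val h1
  refine inf_centralizer_eq_bot_of_invariant_trivial hHL hcopH fun θ hθ => ?_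
  -- the canonical extension
  have hinv : ∀ (g : G) (l : L),
      (θ : L → ℂ) ⟨g * l * g⁻¹, hL.conj_mem (l : G) l.2 g⟩ = (θ : L → ℂ) l := by
    intro g l
    obtain ⟨m, hm, h, hh, rfl⟩ := Lib.Coprime.exists_mul_of_mem_sup (N := L) (H := H) hHL
      (show g ∈ L ⊔ H by rw [sup_comm, htop]; trivial)
    have h1 := hθ h hh l ⟨h * l * h⁻¹, hL.conj_mem (l : G) l.2 h⟩ rfl
    rw [← h1, ← IsCharacter.conj_apply (irr_isCharacter θ)
      (⟨h * l * h⁻¹, hL.conj_mem (l : G) l.2 h⟩ : L) ⟨m, hm⟩]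
    refine congrArg _ (Subtype.ext ?_)
    simp [mul_assoc]
  obtain ⟨d, -, hd, hddvd⟩ := IsIrrCharacter.exists_degree_dvd θ.2
  have hindex : L.index ∣ Nat.card H := by
    have h1 : L.index = L.relIndex (H ⊔ L) := by rw [htop, Subgroup.relIndex_top_right]
    rw [h1, Subgroup.relIndex_sup_right]
    exact (L.subgroupOf H).index_dvd_card
  have hdetL : Cfsg.detOrder (θ : L → ℂ) ∣ Nat.card L := by
    obtain ⟨lam, hlam⟩ := IsCharacter.exists_hom_of_apply_one
      (isCharacter_detChar (irr_isCharacter θ)).1 (isCharacter_detChar (irr_isCharacter θ)).2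
    refine orderOf_dvd_of_pow_eq_one (funext fun x => ?_)
    rw [hlam, Pi.pow_apply, Pi.one_apply, ← Units.val_pow_eq_pow_val, ← map_pow, pow_card_eq_one',
      map_one, Units.val_one]
  obtain ⟨χ', ⟨hχ', hres, hdeteq⟩, -⟩ := Cfsg.Agent.S0867.result L (θ : L → ℂ) θ.2 hinv d hd
    (Nat.Coprime.coprime_dvd_left hindex
      ((hcopH.coprime_dvd_right hdetL).mul_right (hcopH.coprime_dvd_right hddvd)))
  set χ : IrrCharacter G := ⟨χ', hχ'⟩ with hχdef
  have hmove : ∀ a ∈ H, ¬ L ≤ Subgroup.centralizer ({a} : Set G) →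
      a ∈ charKernel (irr_isCharacter χ) := fun a ha hna =>
    (mem_charKernel _).mpr (E.apply_eq_degree hp2 hcop htop ha (hfix a ha hna) hres
      (hcop.coprime_dvd_left hdetL) (by rw [hdeteq]; exact hcop.coprime_dvd_left hdetL))
  have hLker : L ≤ charKernel (irr_isCharacter χ) := by
    by_cases hall : ∀ a ∈ H, L ≤ Subgroup.centralizer ({a} : Set G)
    · have h0 : ⁅L, H⁆ = ⊥ := Subgroup.commutator_eq_bot_iff_le_centralizer.mpr fun l hl =>
        Subgroup.mem_centralizer_iff.mpr fun a ha =>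
          (Subgroup.mem_centralizer_singleton_iff.mp (hall a ha hl)).symm
      rw [hcomm] at h0
      rw [h0]
      exact bot_le
    push Not at hall
    obtain ⟨b, hb, hnb⟩ := hall
    have hHker : H ≤ charKernel (irr_isCharacter χ) := by
      intro a ha
      by_cases hna : L ≤ Subgroup.centralizer ({a} : Set G)
      · have hab : ¬ L ≤ Subgroup.centralizer ({a * b} : Set G) := fun hle => hnb fun l hl => by
          have h1 : Commute l a := Subgroup.mem_centralizer_singleton_iff.mp (hna hl)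
          have h2 : Commute l (a * b) := Subgroup.mem_centralizer_singleton_iff.mp (hle hl)
          have h3 := h1.inv_right.mul_right h2
          rw [inv_mul_cancel_left] at h3
          exact Subgroup.mem_centralizer_singleton_iff.mpr h3
        have := mul_mem (hmove _ (mul_mem ha hb) hab) (inv_mem (hmove b hb hnb))
        simpa using this
      · exact hmove a ha hna
    rw [← hcomm, Subgroup.commutator_le]
    intro l _ h hh
    rw [commutatorElement_def]
    exact mul_mem ((inferInstance : (charKernel (irr_isCharacter χ)).Normal).conj_mem h (hHker hh) l)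
      (inv_mem (hHker hh))
  by_contra hne
  obtain ⟨x, hx⟩ := IsIrrCharacter.exists_ne_apply_one θ.2 hne
  refine hx ?_
  rw [← hres x, ← hres 1]
  exact (mem_charKernel (irr_isCharacter χ)).mp (hLker x.2)

/-- An extremely closed abelian `p`-subgroup, `p` odd, has no fixed points in its commutator. -/
theorem ECHyp.fixed_eq_bot {p : ℕ} [Fact p.Prime] {H : Subgroup G} (E : ECHyp p H) (hp2 : p ≠ 2)
    {L : Subgroup G} (hL : L.Normal) (hcop : (Nat.card L).Coprime p) (htop : H ⊔ L = ⊤)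
    (hcomm : ⁅L, H⁆ = L) : L ⊓ Subgroup.centralizer (H : Set G) = ⊥ :=
  fixed_eq_bot_aux _ rfl hp2 E hL hcop htop hcomm

end Cfsg.Agent.Lib.ExtremelyClosed
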