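import Cfsg.Agent.Lib.ExtremelyClosed.Basic
import Cfsg.Agent.Lib.Components.Balance
import Cfsg.Agent.Lib.Components.Transport
import Cfsg.Agent.Lib.Cores.Basic
import Mathlib.GroupTheory.SchurZassenhaus

/-!
# Extremely closed abelian `p`-subgroups: reductions

Local control of fixed points in the pair cores, the criterion for the factorization, and the
reduction modulo a central element of `H`.
-/

set_option autoImplicit false
set_option linter.unusedSectionVars false

namespace Cfsg.Agent.Lib.ExtremelyClosed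

open Cfsg
open Pointwise
open scoped commutatorElement

universe u

variable {G : Type u} [Group G] [Finite G] {p : ℕ} [hp : Fact p.Prime] {H : Subgroup G}

/-- Fixed points in pair cores of nontrivial elements of `H` lie in the core of the centralizer. -/
def IsLocalControl {G : Type*} [Group G] (p : ℕ) (H : Subgroup G) : Prop :=
  ∀ a ∈ H, a ≠ 1 → ∀ g : G, ∀ u ∈ pairCore p H g, Commute a u → u ∈ centralizerPPrimeCore p a

/-- If `x = o * h` with `o` in a `p'`-group normalized by `h`, `h` a `p`-element and `x` of order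
prime to `p`, then `x` lies in that group. -/
theorem mem_of_mul_pgroup {K : Subgroup G} (hK : (Nat.card K).Coprime p) {x o h : G}
    (ho : o ∈ K) (hh : h ∈ Subgroup.normalizer (K : Set G)) (hhp : ∃ k, orderOf h = p ^ k)
    (hx : x = o * h) (hord : ¬ p ∣ orderOf x) : x ∈ K := by
  subst hx
  set L := K ⊔ Subgroup.zpowers h with hL
  haveI : (K.subgroupOf L).Normal := Subgroup.normal_subgroupOf_of_le_normalizer
    (sup_le Subgroup.le_normalizer (Subgroup.zpowers_le.mpr hh))
  have hhL : h ∈ L := Subgroup.mem_sup_right (Subgroup.mem_zpowers h)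
  have hoL : o ∈ L := Subgroup.mem_sup_left ho
  let π := QuotientGroup.mk' (K.subgroupOf L)
  have hπ : π ⟨o * h, mul_mem hoL hhL⟩ = π ⟨h, hhL⟩ := by
    have : (⟨o * h, mul_mem hoL hhL⟩ : L) = ⟨o, hoL⟩ * ⟨h, hhL⟩ := rfl
    rw [this, map_mul, show π ⟨o, hoL⟩ = 1 from (QuotientGroup.eq_one_iff (⟨o, hoL⟩ : L)).mpr ho,
      one_mul]
  have h1 : orderOf (π ⟨o * h, mul_mem hoL hhL⟩) ∣ orderOf (o * h) := by
    have := orderOf_map_dvd π ⟨o * h, mul_mem hoL hhL⟩
    rwa [Subgroup.orderOf_mk] at this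
  obtain ⟨k, hk⟩ := hhp
  have h2 : orderOf (π ⟨o * h, mul_mem hoL hhL⟩) ∣ p ^ k := by
    rw [hπ, ← hk]
    have := orderOf_map_dvd π ⟨h, hhL⟩
    rwa [Subgroup.orderOf_mk] at this
  exact (QuotientGroup.eq_one_iff (⟨o * h, mul_mem hoL hhL⟩ : L)).mp
    (orderOf_eq_one_iff.mp (Nat.eq_one_of_dvd_coprimes
      (Nat.Coprime.pow_right k (hp.out.coprime_iff_not_dvd.mpr hord).symm) h1 h2))

theorem ECHyp.inf_le_of_factor (E : ECHyp p H) {C K : Subgroup G} (hHC : H ≤ C)
    (hKC : K ≤ C) (hCK : C ≤ Subgroup.normalizer (K : Set G)) (hK : (Nat.card K).Coprime p)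
    (hfac : ∀ x ∈ C, ∃ m ∈ Subgroup.normalizer (H : Set G), ∃ o ∈ K, x = m * o) (g : G) :
    pairCore p H g ⊓ C ≤ K := by
  set D := pairCore p H g ⊓ C with hD
  have hHD : H ≤ Subgroup.normalizer (D : Set G) := fun h hh =>
    mem_normalizer_of_conj_le _ fun y hy =>
      ⟨conj_mem (E.normalize_core g hh) hy.1, C.mul_mem (C.mul_mem (hHC hh) hy.2) (C.inv_mem (hHC hh))⟩
  have hcop : (Nat.card H).Coprime (Nat.card D) :=
    (E.coprime_card g).symm.coprime_dvd_right (Subgroup.card_dvd_of_le inf_le_left)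
  have hcomm : ⁅D, H⁆ ≤ K := by
    refine Subgroup.commutator_le.mpr fun d hd h hh => ?_
    obtain ⟨m, hm, o, ho, rfl⟩ := hfac d hd.2
    have hmC : m ∈ C := by
      simpa [mul_assoc] using C.mul_mem hd.2 (C.inv_mem (hKC ho))
    have hxD : ⁅m * o, h⁆ ∈ D :=
      Lib.Coprime.commutator_le_of_le_normalizer hHD (Subgroup.commutator_mem_commutator hd hh)
    set h' := m * h * m⁻¹ * h⁻¹ with hh'
    have hh'H : h' ∈ H := mul_mem (conj_mem hm hh) (inv_mem hh)
    refine mem_of_mul_pgroup hK (o := m * (o * h * o⁻¹ * h⁻¹) * m⁻¹) (h := h') ?_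
      (hCK (hHC hh'H)) (Lib.LocalEven2.orderOf_of_mem_pgroup E.pgroup hh'H) ?_
      (not_dvd_orderOf (pairCore_coprime g) hxD.1)
    · refine conj_mem (hCK hmC) ?_
      have := mul_mem ho (conj_mem (hCK (hHC hh)) (inv_mem ho))
      simpa [mul_assoc] using this
    · rw [hh', commutatorElement_def]; group
  have hfix : D ⊓ Subgroup.centralizer (H : Set G) = ⊥ := by
    rw [eq_bot_iff]
    rintro x ⟨hx, hc⟩
    rw [Subgroup.mem_bot]
    refine E.eq_one_of_mem_normalizer hx.1 (mem_normalizer_of_conj_le _ fun y hy => ?_)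
    rw [← Subgroup.mem_centralizer_iff.mp hc y hy]
    simpa using hy
  have heq := Lib.Coprime.commutator_sup_centralizer_eq hHD hcop
    (Or.inl (isSolvable_of_comm fun a b => Subtype.ext (E.mul_comm_mem a.2 b.2)))
  rw [hfix, sup_bot_eq] at heq
  exact heq ▸ hcomm

theorem ECHyp.le_centralizer_singleton (E : ECHyp p H) {a : G} (ha : a ∈ H) :
    H ≤ Subgroup.centralizer ({a} : Set G) := fun h hh =>
  Subgroup.mem_centralizer_singleton_iff.mpr (E.mul_comm_mem hh ha)

/-- Local control from the factorization of the centralizers of elements of `H`. -/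
theorem ECHyp.isLocalControl (E : ECHyp p H)
    (IH : ∀ a ∈ H, a ≠ 1 →
      Subgroup.normalizer
          (H.subgroupOf (Subgroup.centralizer ({a} : Set G)) :
            Set ↥(Subgroup.centralizer ({a} : Set G))) ⊔
        pPrimeCore p ↥(Subgroup.centralizer ({a} : Set G)) = ⊤) :
    IsLocalControl p H := by
  intro a ha ha1 g u hu hau
  set C := Subgroup.centralizer ({a} : Set G) with hC
  have hHC : H ≤ C := E.le_centralizer_singleton ha
  have huC : u ∈ C := Subgroup.mem_centralizer_singleton_iff.mpr hau.eq.symm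
  refine E.inf_le_of_factor (C := C) (K := centralizerPPrimeCore p a) hHC
    (Lib.Components.centralizerPPrimeCore_le_centralizer a)
    (Lib.Components.centralizer_le_normalizer_centralizerPPrimeCore a)
    (Lib.Components.coprime_card_centralizerPPrimeCore a) (fun x hx => ?_) g ⟨hu, huC⟩
  have hmem : (⟨x, hx⟩ : C) ∈ pPrimeCore p ↥C ⊔
      Subgroup.normalizer (H.subgroupOf C : Set C) := by
    rw [sup_comm, IH a ha ha1]; trivial
  obtain ⟨o, ho, m, hm, heq⟩ := Lib.Coprime.exists_mul_of_mem_sup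
    (Subgroup.normalizer_eq_top (pPrimeCore p ↥C) ▸ le_top) hmem
  have hmN : (m : G) ∈ Subgroup.normalizer (H : Set G) := mem_normalizer_of_conj_le _ fun z hz =>
    conj_mem hm (show (⟨z, hHC hz⟩ : C) ∈ H.subgroupOf C from hz)
  refine ⟨m, hmN, ((m⁻¹ * o * m : C) : G), ⟨m⁻¹ * o * m, ?_, rfl⟩, ?_⟩
  · have := Subgroup.Normal.conj_mem (inferInstance : (pPrimeCore p ↥C).Normal) o ho m⁻¹
    simpa using this
  · rw [← show ((o * m : C) : G) = x from congrArg Subtype.val heq.symm]
    push_cast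
    group

theorem ECHyp.conj_centralizerPPrimeCore (E : ECHyp p H) {m a x : G}
    (hx : x ∈ centralizerPPrimeCore p a) : m * x * m⁻¹ ∈ centralizerPPrimeCore p (m * a * m⁻¹) := by
  rw [← Lib.Components.map_centralizerPPrimeCore_conj p m a]
  exact ⟨x, hx, rfl⟩

/-- The factorization follows when all conjugates of `H` lie in `H` times a normal `p'`-group. -/
theorem sup_pPrimeCore_eq_top_of_conj (hH : IsPGroup p H) (hs : Group.IsSolvable H)
    {K : Subgroup G} [K.Normal] (hK : (Nat.card K).Coprime p)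
    (hconj : ∀ g : G, ∀ h ∈ H, g * h * g⁻¹ ∈ K ⊔ H) :
    Subgroup.normalizer (H : Set G) ⊔ pPrimeCore p G = ⊤ := by
  rw [eq_top_iff]
  intro g _
  obtain ⟨n, hn⟩ := IsPGroup.iff_card.mp hH
  obtain ⟨o, ho, hconj'⟩ := Lib.Coprime.exists_conj_eq_of_le_sup (N := K) (H := H)
    (K := H.map (MulAut.conj g).toMonoidHom)
    (Subgroup.normalizer_eq_top K ▸ le_top) (by rw [hn]; exact hK.pow_right n) (Or.inr hs)
    (Nat.card_congr (Subgroup.equivMapOfInjective _ _ (MulAut.conj g).injective).toEquiv).symm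
    (by rintro _ ⟨h, hh, rfl⟩; exact hconj g h hh)
  have hN : o⁻¹ * g ∈ Subgroup.normalizer (H : Set G) := mem_normalizer_of_conj_le _ fun h hh => by
    have h1 : g * h * g⁻¹ ∈ H.map (MulAut.conj g).toMonoidHom := ⟨h, hh, rfl⟩
    rw [← hconj', Lib.Coprime.mem_conj_smul] at h1
    simpa [mul_assoc] using h1
  rw [show g = (o⁻¹ * g) * ((o⁻¹ * g)⁻¹ * o * (o⁻¹ * g)) by group]
  refine Subgroup.mul_mem_sup hN (Lib.Components.le_pPrimeCore ‹_› hK ?_)
  simpa using (‹K.Normal›).conj_mem o ho (o⁻¹ * g)⁻¹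

/-- Reduction modulo a central element of `H`. -/
theorem ECHyp.sup_eq_top_of_central (E : ECHyp p H) {y : G} (hy : y ∈ H)
    [hZ : (Subgroup.zpowers y).Normal] (hc : y ∈ Subgroup.center G)
    (IH : Subgroup.normalizer
        (H.map (QuotientGroup.mk' (Subgroup.zpowers y)) : Set (G ⧸ Subgroup.zpowers y)) ⊔
      pPrimeCore p (G ⧸ Subgroup.zpowers y) = ⊤) :
    Subgroup.normalizer (H : Set G) ⊔ pPrimeCore p G = ⊤ := by
  set Z := Subgroup.zpowers y with hZdef
  set f := QuotientGroup.mk' Z with hf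
  have hZH : Z ≤ H := Subgroup.zpowers_le.mpr hy
  set X := (pPrimeCore p (G ⧸ Z)).comap f with hX
  haveI hXn : X.Normal := (inferInstance : (pPrimeCore p (G ⧸ Z)).Normal).comap f
  have hZX : Z ≤ X := fun z hz => by
    rw [hX, Subgroup.mem_comap, hf, QuotientGroup.mk'_apply, (QuotientGroup.eq_one_iff z).mpr hz]
    exact one_mem _
  haveI : (Z.subgroupOf X).Normal := hZ.subgroupOf X
  obtain ⟨k, hk⟩ := Lib.LocalEven2.orderOf_of_mem_pgroup E.pgroup hy
  have hcardX : Nat.card X = Nat.card Z * Nat.card (pPrimeCore p (G ⧸ Z)) :=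
    Lib.Cores.card_comap_mk' Z _
  have hcardZ : Nat.card (Z.subgroupOf X) = Nat.card Z :=
    Nat.card_congr (Subgroup.subgroupOfEquivOfLe hZX).toEquiv
  have hindex : (Z.subgroupOf X).index = Nat.card (pPrimeCore p (G ⧸ Z)) := by
    have := Subgroup.card_mul_index (Z.subgroupOf X)
    rw [hcardZ, hcardX] at this
    exact mul_left_cancel₀ Nat.card_pos.ne' this
  obtain ⟨K, hK⟩ := Subgroup.exists_right_complement'_of_coprime (N := Z.subgroupOf X) (by
    rw [hcardZ, hindex, Nat.card_zpowers, hk]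
    exact (Lib.Components.pPrimeCore_coprime p).symm.pow_left k)
  set KG := K.map X.subtype with hKG
  have hKcop : (Nat.card KG).Coprime p := by
    rw [hKG, Subgroup.card_map_of_injective X.subtype_injective]
    have h1 : Nat.card K = (Z.subgroupOf X).index := hK.symm.index_eq_card.symm
    rw [h1, hindex]
    exact Lib.Components.pPrimeCore_coprime p
  have hKn : KG.Normal := by
    constructor
    rintro _ ⟨w, hw, rfl⟩ g
    have hcX : g * (w : G) * g⁻¹ ∈ X := hXn.conj_mem _ w.2 g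
    obtain ⟨⟨z, v⟩, hzv, -⟩ := hK.existsUnique ⟨_, hcX⟩
    have hzc : ((z : X) : G) ∈ Subgroup.center G := by
      obtain ⟨j, hj⟩ := Subgroup.mem_zpowers_iff.mp z.2
      have hj' : y ^ j = ((z : X) : G) := hj
      rw [← hj']
      exact zpow_mem hc j
    refine mem_of_mul_pgroup hKcop (o := ((v : X) : G)) (h := ((z : X) : G)) ⟨(v : X), v.2, rfl⟩
      (Subgroup.center_le_normalizer _ hzc)
      (Lib.LocalEven2.orderOf_of_mem_pgroup E.pgroup (hZH z.2)) ?_ ?_
    · show g * (w : G) * g⁻¹ = _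
      rw [Subgroup.mem_center_iff.mp hzc, show g * (w : G) * g⁻¹ = (((z : X) * (v : X) : X) : G) from
        congrArg Subtype.val hzv.symm]
      rfl
    · show ¬ p ∣ orderOf (g * (w : G) * g⁻¹)
      rw [Lib.Components.orderOf_conj]
      exact not_dvd_orderOf hKcop ⟨w, hw, rfl⟩
  have hX' : X ≤ Z ⊔ pPrimeCore p G := by
    intro x hx
    obtain ⟨⟨z, v⟩, hzv, -⟩ := hK.existsUnique ⟨x, hx⟩
    rw [show x = ((z : X) : G) * ((v : X) : G) from congrArg Subtype.val hzv.symm]
    exact Subgroup.mul_mem_sup z.2 (Lib.Components.le_pPrimeCore hKn hKcop ⟨(v : X), v.2, rfl⟩)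
  rw [eq_top_iff]
  intro g _
  have hmem : f g ∈ pPrimeCore p (G ⧸ Z) ⊔ Subgroup.normalizer (H.map f : Set (G ⧸ Z)) := by
    rw [sup_comm, IH]; trivial
  obtain ⟨o, ho, m, hm, heq⟩ := Lib.Coprime.exists_mul_of_mem_sup
    (Subgroup.normalizer_eq_top (pPrimeCore p (G ⧸ Z)) ▸ le_top) hmem
  obtain ⟨n, rfl⟩ := QuotientGroup.mk'_surjective Z m
  have hnN : n ∈ Subgroup.normalizer (H : Set G) := mem_normalizer_of_conj_le _ fun z hz => by
    obtain ⟨w, hw, hwe⟩ := conj_mem hm (Subgroup.mem_map_of_mem f hz)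
    have h1 : n * z * n⁻¹ * w⁻¹ ∈ Z := by
      rw [← QuotientGroup.ker_mk' Z, MonoidHom.mem_ker]
      rw [map_mul, map_mul, map_mul, map_inv, map_inv, hf] at *
      rw [hwe]
      simp
    simpa using mul_mem (hZH h1) hw
  have hx : g * n⁻¹ ∈ X := by
    rw [hX, Subgroup.mem_comap, map_mul, map_inv, heq, mul_inv_cancel_right]
    exact ho
  rw [show g = g * n⁻¹ * n by simp]
  refine mul_mem ?_ (Subgroup.mem_sup_left hnN)
  exact sup_le_sup_right ((Subgroup.le_normalizer).trans' hZH) _ (hX' hx)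

end Cfsg.Agent.Lib.ExtremelyClosed
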