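import Cfsg.Agent.Lib.ExtremelyClosed.Chars
import Cfsg.Agent.Lib.ExtremelyClosed.Coherence
import Cfsg.Agent.Lib.InvChar.ZStarTheorem

/-!
# The factorization for extremely closed abelian `p`-subgroups
-/

set_option autoImplicit false
set_option linter.unusedSectionVars false

namespace Cfsg.Agent.Lib.ExtremelyClosed

open Cfsg
open Pointwise

universe u

/-- `H` of order two: Glauberman's `Z*`-theorem. -/
theorem ECHyp.sup_eq_top_of_card_two {G : Type u} [Group G] [Finite G] {p : ℕ} [hp : Fact p.Prime]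
    {H : Subgroup G} (E : ECHyp p H) (h2 : Nat.card H = 2) :
    Subgroup.normalizer (H : Set G) ⊔ pPrimeCore p G = ⊤ := by
  have hp2 : p = 2 := by
    obtain ⟨k, hk⟩ := IsPGroup.iff_card.mp E.pgroup
    rw [h2] at hk
    have h1 : p ∣ 2 := by
      rcases Nat.eq_zero_or_pos k with rfl | hk0
      · simp at hk
      · rw [hk]; exact dvd_pow_self p hk0.ne'
    exact (Nat.prime_dvd_prime_iff_eq hp.out Nat.prime_two).mp h1
  subst hp2
  obtain ⟨⟨z, hzH⟩, hz⟩ := exists_prime_orderOf_dvd_card' (G := H) 2 h2.symm.dvd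
  rw [Subgroup.orderOf_mk] at hz
  have hHz : Subgroup.zpowers z = H := Subgroup.eq_of_le_of_card_ge (Subgroup.zpowers_le.mpr hzH)
    (by rw [Nat.card_zpowers, hz, h2])
  have hmem : ∀ h ∈ H, h = 1 ∨ h = z := by
    intro h hh
    rw [← hHz, Subgroup.mem_zpowers_iff] at hh
    obtain ⟨j, rfl⟩ := hh
    rw [← zpow_mod_orderOf, hz]
    rcases Int.emod_two_eq_zero_or_one j with h | h <;> simp [h]
  have hiso : IsIsolated z := by
    intro g hc
    have hN : g * z * g⁻¹ ∈ Subgroup.normalizer (H : Set G) := by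
      refine mem_normalizer_of_conj_le _ fun h hh => ?_
      rcases hmem h hh with rfl | rfl
      · simp
      · rw [← hc.eq, mul_inv_cancel_right]; exact hh
    rcases hmem _ (E.conj_mem_of_mem_normalizer hzH hN) with h | h
    · rw [conj_eq_one_iff] at h
      rw [h, orderOf_one] at hz
      omega
    · exact h
  have hZ := Lib.InvChar.inZStar_of_isIsolated hz hiso
  haveI : (pPrimeCore 2 G).Normal := inferInstance
  refine sup_pPrimeCore_eq_top_of_conj E.pgroup
    (isSolvable_of_comm fun a b => Subtype.ext (E.mul_comm_mem a.2 b.2))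
    (Lib.Components.pPrimeCore_coprime 2) fun g h hh => ?_
  rcases hmem h hh with rfl | rfl
  · simp
  · rw [show g * h * g⁻¹ = g * h * g⁻¹ * h⁻¹ * h by group]
    exact Subgroup.mul_mem_sup (hZ g) hh

/-- The inductive step for one orbit. -/
theorem ECHyp.sup_eq_top_of_coherent {G : Type u} [Group G] [Finite G] {p : ℕ} [hp : Fact p.Prime]
    {H : Subgroup G} (E : ECHyp p H)
    (hcoh : ∀ g g' : G,
      (nn p H (g * g'))⁻¹ * (nn p H g * nn p H g') ∈ Subgroup.centralizer (H : Set G))
    (hNC : ¬ Subgroup.normalizer (H : Set G) ≤ Subgroup.centralizer (H : Set G))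
    (IH : ∀ K : Subgroup G, K ≠ ⊤ → H ≤ K →
      Subgroup.normalizer (H.subgroupOf K : Set K) ⊔ pPrimeCore p K = ⊤) :
    Subgroup.normalizer (H : Set G) ⊔ pPrimeCore p G = ⊤ := by
  set C := Subgroup.centralizer (H : Set G) with hC
  let G₁ : Subgroup G :=
    { carrier := {g | nn p H g ∈ C}
      one_mem' := by
        show nn p H 1 ∈ C
        rw [E.nn_self (one_mem _)]; exact one_mem _
      mul_mem' := fun {g g'} hg hg' => by
        have := mul_mem (mul_mem hg hg') (inv_mem (hcoh g g'))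
        simpa [mul_assoc] using this
      inv_mem' := fun {g} hg => by
        show nn p H g⁻¹ ∈ C
        rw [E.nn_inv]; exact inv_mem hg }
  have hG₁ : ∀ g, g ∈ G₁ ↔ nn p H g ∈ C := fun g => Iff.rfl
  haveI hn : G₁.Normal := by
    refine ⟨fun g hg x => ?_⟩
    rw [hG₁] at hg ⊢
    have h1 := hcoh x g
    have h2 := hcoh (x * g) x⁻¹
    rw [E.nn_inv] at h2
    have h3 : nn p H x * nn p H g * (nn p H x)⁻¹ ∈ C := conj_mem_centralizer (E.nn_mem x) hg
    have h4 : nn p H (x * g) * (nn p H x)⁻¹ ∈ C := by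
      have := mul_mem h3 (conj_mem_centralizer (E.nn_mem x) (inv_mem h1))
      simpa [mul_assoc] using this
    have := mul_mem h4 (inv_mem h2)
    simpa [mul_assoc] using this
  have hne : G₁ ≠ ⊤ := by
    intro htop
    obtain ⟨m, hm, hmC⟩ := SetLike.not_le_iff_exists.mp hNC
    have : m ∈ G₁ := htop ▸ Subgroup.mem_top m
    rw [hG₁, E.nn_self hm] at this
    exact hmC this
  have hHG : H ≤ G₁ := fun h hh => by
    rw [hG₁, E.nn_self (Subgroup.le_normalizer hh)]
    exact E.le_centralizer hh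
  have hO : (pPrimeCore p G₁).map G₁.subtype ≤ pPrimeCore p G :=
    Lib.Components.le_pPrimeCore inferInstance (by
      rw [Subgroup.card_map_of_injective G₁.subtype_injective]
      exact Lib.Components.pPrimeCore_coprime p)
  have hsub : ∀ w ∈ G₁, w ∈ Subgroup.normalizer (H : Set G) ⊔ pPrimeCore p G := by
    intro w hw
    have hw' : (⟨w, hw⟩ : G₁) ∈
        Subgroup.normalizer (H.subgroupOf G₁ : Set G₁) ⊔ pPrimeCore p G₁ := by
      rw [IH G₁ hne hHG]; trivial
    have h2 := Subgroup.mem_map_of_mem G₁.subtype hw'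
    rw [Subgroup.map_sup] at h2
    refine (sup_le_sup ?_ hO) h2
    rintro _ ⟨m, hm, rfl⟩
    exact mem_normalizer_of_conj_le _ fun z hz =>
      conj_mem hm (show (⟨z, hHG hz⟩ : G₁) ∈ H.subgroupOf G₁ from hz)
  rw [eq_top_iff]
  intro g _
  have ht : g * (nn p H g)⁻¹ ∈ G₁ := by
    rw [hG₁, E.nn_mul_right g (inv_mem (E.nn_mem g)), mul_inv_cancel]
    exact one_mem _
  rw [show g = g * (nn p H g)⁻¹ * nn p H g by group]
  exact mul_mem (hsub _ ht) (Subgroup.mem_sup_left (E.nn_mem g))

theorem sup_eq_top_aux (n : ℕ) : ∀ {G : Type u} [Group G] [Finite G] {p : ℕ} [Fact p.Prime]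
    {H : Subgroup G}, Nat.card G = n → ECHyp p H →
      Subgroup.normalizer (H : Set G) ⊔ pPrimeCore p G = ⊤ := by
  induction n using Nat.strongRecOn with
  | ind n ih =>
  intro G _ _ p _ H hcard E
  classical
  by_cases hbot : H = ⊥
  · subst hbot
    rw [eq_top_iff]
    refine le_sup_of_le_left fun g _ => mem_normalizer_of_conj_le _ fun y hy => ?_
    rw [Subgroup.mem_bot] at hy
    simp [hy]
  have hlt : ∀ K : Subgroup G, K ≠ ⊤ → Nat.card K < n := fun K hK => by
    rw [← hcard]
    exact lt_of_le_of_ne (Subgroup.card_le_card_group K)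
      fun h => hK (Subgroup.eq_top_of_card_eq K h)
  have IH : ∀ K : Subgroup G, K ≠ ⊤ → H ≤ K →
      Subgroup.normalizer (H.subgroupOf K : Set K) ⊔ pPrimeCore p K = ⊤ :=
    fun K hK hHK => ih _ (hlt K hK) rfl (E.subgroupOf K hHK)
  by_cases hcen : ∃ y ∈ H, y ≠ 1 ∧ y ∈ Subgroup.center G
  · obtain ⟨y, hy, hy1, hyc⟩ := hcen
    haveI : (Subgroup.zpowers y).Normal := by
      refine ⟨fun z hz g => ?_⟩
      obtain ⟨j, rfl⟩ := Subgroup.mem_zpowers_iff.mp hz
      rw [Subgroup.mem_center_iff.mp (zpow_mem hyc j) g, mul_inv_cancel_right]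
      exact hz
    refine E.sup_eq_top_of_central hy hyc (ih _ ?_ rfl
      (E.map_quotient _ (QuotientGroup.mk'_surjective _)
        (by rw [QuotientGroup.ker_mk']; exact Subgroup.zpowers_le.mpr hy)))
    rw [← hcard, Subgroup.card_eq_card_quotient_mul_card_subgroup (Subgroup.zpowers y)]
    refine lt_mul_of_one_lt_right Nat.card_pos ((Subgroup.one_lt_card_iff_ne_bot _).2 ?_)
    rwa [Ne, Subgroup.zpowers_eq_bot]
  have hloc : IsLocalControl p H := by
    refine E.isLocalControl fun a ha ha1 => IH _ (fun htop => hcen ⟨a, ha, ha1, ?_⟩)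
      (E.le_centralizer_singleton ha)
    rw [Subgroup.mem_center_iff]
    intro g
    exact (Subgroup.mem_centralizer_singleton_iff.mp (htop ▸ Subgroup.mem_top g))
  by_cases horb : ∀ a ∈ H, a ≠ 1 → ∀ c ∈ H, c ≠ 1 →
      ∃ m ∈ Subgroup.normalizer (H : Set G), m * a * m⁻¹ = c
  · by_cases h2 : Nat.card H = 2
    · exact E.sup_eq_top_of_card_two h2
    refine E.sup_eq_top_of_coherent (E.coherent hloc horb hbot h2) ?_ IH
    intro hle
    obtain ⟨a, ha, ha1⟩ := (Subgroup.bot_or_exists_ne_one H).resolve_left hbot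
    have hone : ∀ c ∈ H, c ≠ 1 → c = a := fun c hc hc1 => by
      obtain ⟨m, hm, he⟩ := horb a ha ha1 c hc hc1
      rw [← he, ← Subgroup.mem_centralizer_iff.mp (hle hm) a ha, mul_inv_cancel_right]
    refine h2 (le_antisymm ?_ (Nat.succ_le_of_lt ((Subgroup.one_lt_card_iff_ne_bot H).2 hbot)))
    have h3 : (H : Set G) ⊆ {1, a} := fun x hx => (em (x = 1)).imp id (hone x hx)
    calc Nat.card H = Set.ncard (H : Set G) := Nat.card_coe_set_eq _
      _ ≤ Set.ncard ({1, a} : Set G) := Set.ncard_le_ncard h3 (Set.toFinite _)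
      _ ≤ 2 := (Set.ncard_insert_le _ _).trans (by rw [Set.ncard_singleton])
  · haveI := Fintype.ofFinite G
    simp only [not_forall, not_exists, not_and] at horb
    obtain ⟨a, ha, ha1, c, hc, hc1, hne⟩ := horb
    exact E.sup_eq_top_of_two_orbits hloc ha hc ha1 hc1 hne

/-- An extremely closed abelian `p`-subgroup gives a factorization `G = N(H) O_{p'}(G)`. -/
theorem ECHyp.sup_eq_top {G : Type u} [Group G] [Finite G] {p : ℕ} [Fact p.Prime] {H : Subgroup G}
    (E : ECHyp p H) : Subgroup.normalizer (H : Set G) ⊔ pPrimeCore p G = ⊤ :=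
  sup_eq_top_aux _ rfl E

end Cfsg.Agent.Lib.ExtremelyClosed
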